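import Cfsg.Agent.Lib.OrthOddAny.Defs
import Cfsg.Agent.Lib.OrthNine.Main

/-!
An absolutely irreducible minimal normal subgroup: the residual core, or a family of commuting perfect factors
permuted transitively by the group.
-/

set_option autoImplicit false
set_option linter.unusedSectionVars false
set_option linter.unusedVariables false
set_option linter.style.haveILetI false

namespace Cfsg.Agent.Lib.OrthOddAny

open Matrix Cfsg.Agent.Lib
open scoped MatrixGroups Matrix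

variable {ι : Type} [Fintype ι] [DecidableEq ι] {F : Type*} [Field F] [Fintype F]
  {Q : QuadraticForm F (ι → F)}

set_option maxHeartbeats 1600000 in
/-- The residual core or a family of factors. -/
theorem core_or_family {H N : Subgroup (GL ι F)} (hiso : H ≤ Cfsg.isometryGroup F ⇑Q) (hNH : N ≤ H)
    (hnor : ∀ h ∈ H, ∀ x ∈ N, h * x * h⁻¹ ∈ N)
    (hmin : ∀ M : Subgroup (GL ι F), M ≤ N → (∀ h ∈ H, ∀ x ∈ M, h * x * h⁻¹ ∈ M) → M = ⊥ ∨ M = N)
    (hs : ∀ x ∈ N, x ∈ Cfsg.Geo.scalars ι F → x = 1)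
    (habs : Cfsg.Geo.ActsAbsolutelyIrreducibly (Cfsg.Geo.matrixSet N))
    (hnab : ∃ x ∈ N, ∃ y ∈ N, x * y ≠ y * x)
    (hsub : ∀ F₀ : Subfield F, F₀ ≠ ⊤ → ¬ Cfsg.Geo.RealisableOver F₀ (Cfsg.Geo.matrixSet N)) :
    Cfsg.Geo.IsResidualCore H N ∨ ∃ t D, Family H t D := by
  classical
  haveI : Nonempty ι := by
    by_contra he
    rw [not_nonempty_iff] at he
    obtain ⟨x, -, y, -, hxy⟩ := hnab
    exact hxy (Units.ext (Subsingleton.elim _ _))
  obtain ⟨x₀, hx₀, y₀, hy₀, hxy⟩ := hnab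
  have hN0 : N ≠ ⊥ := fun h => by
    rw [h, Subgroup.mem_bot] at hx₀
    exact hxy (by rw [hx₀, one_mul, mul_one])
  have hNperf := OrthNine.Main.perfect_of_minimal hnor hmin ⟨x₀, hx₀, y₀, hy₀, hxy⟩
  obtain ⟨K, hKN, hK0, hKn, hKmin⟩ := PrimeDim.OrthCore.exists_minimal_normal hN0
  by_cases hall : ∀ h ∈ H, ∀ x ∈ K, h * x * h⁻¹ ∈ K
  · left
    have hKeq : K = N := (hmin K hKN hall).resolve_left hK0
    subst hKeq
    haveI hsimple : IsSimpleGroup K := by
      haveI : Nontrivial K := ⟨⟨x₀, hx₀⟩, 1, fun h => hxy (by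
        rw [show x₀ = 1 from congrArg Subtype.val h, one_mul, mul_one])⟩
      refine ⟨fun L hL => ?_⟩
      rcases hKmin (L.map K.subtype) (Subgroup.map_subtype_le L) (by
        rintro h hh _ ⟨x, hx, rfl⟩
        exact ⟨⟨h, hh⟩ * x * ⟨h, hh⟩⁻¹, hL.conj_mem x hx _, rfl⟩) with h | h
      · exact Or.inl ((Subgroup.map_eq_bot_iff_of_injective L K.subtype_injective).mp h)
      · refine Or.inr (eq_top_iff.mpr fun z _ => ?_)
        obtain ⟨y, hy, hyz⟩ : (z : GL ι F) ∈ L.map K.subtype := h.symm ▸ z.2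
        exact Subtype.ext hyz ▸ hy
    have hbot : (Cfsg.Geo.scalars ι F).subgroupOf K = ⊥ :=
      (Subgroup.eq_bot_iff_forall _).mpr fun x hx => Subtype.ext (hs x x.2 hx)
    have e : (K ⧸ (Cfsg.Geo.scalars ι F).subgroupOf K) ≃* K :=
      (QuotientGroup.quotientMulEquivOfEq hbot).trans QuotientGroup.quotientBot
    refine ⟨hNH, hnor, hNperf, ?_, ?_, fun h hh hc => OrthNine.Main.scalar_of_abs habs fun x hx => ?_, habs, hsub⟩
    · haveI : Nontrivial (K ⧸ (Cfsg.Geo.scalars ι F).subgroupOf K) := e.toEquiv.nontrivial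
      exact IsSimpleGroup.isSimpleGroup_of_surjective e.symm.toMonoidHom e.symm.surjective
    · intro hc
      refine hxy ?_
      have := hc.is_comm.comm (e.symm ⟨x₀, hx₀⟩) (e.symm ⟨y₀, hy₀⟩)
      rw [← map_mul, ← map_mul] at this
      exact congrArg Subtype.val (e.symm.injective this)
    · have := hs _ (K.mul_mem (hnor h hh x hx) (K.inv_mem hx)) (hc x hx)
      rw [mul_inv_eq_one, mul_inv_eq_iff_eq_mul] at this
      exact this
  right
  let C : GL ι F → Subgroup (GL ι F) := fun h => K.map (MulAut.conj h).toMonoidHom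
  have hCN : ∀ h ∈ H, C h ≤ N := by
    rintro h hh _ ⟨x, hx, rfl⟩; exact hnor h hh x (hKN hx)
  have hCn : ∀ h ∈ H, ∀ g ∈ N, ∀ y ∈ C h, g * y * g⁻¹ ∈ C h := by
    rintro h hh g hg _ ⟨x, hx, rfl⟩
    have hg' : h⁻¹ * g * h ∈ N := by simpa using hnor h⁻¹ (H.inv_mem hh) g hg
    exact ⟨_, hKn _ hg' x hx, by simp only [MulEquiv.coe_toMonoidHom, MulAut.conj_apply]; group⟩
  have hCinf : ∀ h ∈ H, ∀ h' ∈ H, ∀ a ∈ C h, ∀ b ∈ C h', C h = C h' ∨ a * b = b * a := by
    intro h hh h' hh' a ha b hb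
    by_cases heq : C h = C h'
    · exact Or.inl heq
    right
    have hbot : C h ⊓ C h' = ⊥ := by
      let M := (C h ⊓ C h').comap (MulAut.conj h).toMonoidHom
      have hM : ∀ {x}, x ∈ M ↔ h * x * h⁻¹ ∈ C h ⊓ C h' := by simp [M]
      have hMK : M ≤ K := fun x hx => by
        obtain ⟨y, hy, he⟩ := (hM.mp hx).1
        have : y = x := (MulAut.conj h).injective he
        exact this ▸ hy
      have hMn : ∀ g ∈ N, ∀ x ∈ M, g * x * g⁻¹ ∈ M := by
        intro g hg x hx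
        have e : h * (g * x * g⁻¹) * h⁻¹ = (h * g * h⁻¹) * (h * x * h⁻¹) * (h * g * h⁻¹)⁻¹ := by group
        refine hM.mpr ?_
        rw [e]
        exact ⟨hCn h hh _ (hnor h hh g hg) _ (hM.mp hx).1, hCn h' hh' _ (hnor h hh g hg) _ (hM.mp hx).2⟩
      rcases hKmin M hMK hMn with h0 | h0
      · refine (Subgroup.eq_bot_iff_forall _).mpr fun z hz => ?_
        have : h⁻¹ * z * h ∈ M := hM.mpr (by simpa [mul_assoc] using hz)
        rw [h0, Subgroup.mem_bot] at this
        calc z = h * (h⁻¹ * z * h) * h⁻¹ := by group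
          _ = 1 := by rw [this]; group
      · exfalso
        refine heq (Subgroup.eq_of_le_of_card_ge ?_ (le_of_eq ?_))
        · rintro _ ⟨x, hx, rfl⟩
          exact (hM.mp (h0.symm ▸ hx)).2
        · exact (Subgroup.card_map_of_injective (f := (MulAut.conj h').toMonoidHom) (MulAut.conj h').injective).trans
            (Subgroup.card_map_of_injective (f := (MulAut.conj h).toMonoidHom) (MulAut.conj h).injective).symm
    have h1 : a * b * a⁻¹ * b⁻¹ ∈ C h ⊓ C h' :=
      Subgroup.mem_inf.mpr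
        ⟨by rw [show a * b * a⁻¹ * b⁻¹ = a * (b * a⁻¹ * b⁻¹) by group]
            exact (C h).mul_mem ha (hCn h hh b (hCN h' hh' hb) _ ((C h).inv_mem ha)),
          (C h').mul_mem (hCn h' hh' a (hCN h hh ha) _ hb) ((C h').inv_mem hb)⟩
    rw [hbot, Subgroup.mem_bot] at h1
    exact commutatorElement_eq_one_iff_mul_comm.mp h1
  push Not at hall
  obtain ⟨h₁, hh₁, k₁, hk₁, hk₁'⟩ := hall
  have hC1 : ∀ {z}, z ∈ C 1 ↔ z ∈ K := fun {z} => by simp [C]
  have hcase : ∀ h ∈ H, (∀ x ∈ K, h * x * h⁻¹ ∈ K) ∨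
      (∀ x ∈ K, ∀ y ∈ K, h * x * h⁻¹ * y = y * (h * x * h⁻¹)) := by
    intro h hh
    by_cases heq : C h = C 1
    · exact Or.inl fun x hx => hC1.mp (heq ▸ ⟨x, hx, rfl⟩)
    · exact Or.inr fun x hx y hy =>
        (hCinf h hh 1 H.one_mem (h * x * h⁻¹) ⟨x, hx, rfl⟩ y (hC1.mpr hy)).resolve_left heq
  let S : Set (GL ι F) := {y | ∃ h ∈ H, y ∈ C h}
  have hSN : Subgroup.closure S = N := by
    refine (hmin _ ((Subgroup.closure_le _).mpr fun y hy => ?_) fun g hg x hx => ?_).resolve_left fun h0 => ?_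
    · obtain ⟨h, hh, hy'⟩ := hy; exact hCN h hh hy'
    · have hmap : (Subgroup.closure S).map (MulAut.conj g).toMonoidHom ≤ Subgroup.closure S := by
        rw [MonoidHom.map_closure]
        refine Subgroup.closure_mono ?_
        rintro _ ⟨y, ⟨h, hh, z, hz, rfl⟩, rfl⟩
        exact ⟨g * h, H.mul_mem hg hh, z, hz, by
          simp only [MulEquiv.coe_toMonoidHom, MulAut.conj_apply]; group⟩
      exact hmap ⟨x, hx, rfl⟩
    · refine hk₁' ?_
      have : h₁ * k₁ * h₁⁻¹ ∈ Subgroup.closure S := Subgroup.subset_closure ⟨h₁, hh₁, k₁, hk₁, rfl⟩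
      rw [h0, Subgroup.mem_bot] at this
      rw [this]; exact K.one_mem
  have hKnab : ∃ x ∈ K, ∃ y ∈ K, x * y ≠ y * x := by
    by_contra hKab
    push Not at hKab
    have hScomm : ∀ a ∈ S, ∀ b ∈ S, a * b = b * a := by
      rintro a ⟨h, hh, ha⟩ b ⟨h', hh', hb⟩
      rcases hCinf h hh h' hh' a ha b hb with he | he
      · rw [← he] at hb
        obtain ⟨x, hx, rfl⟩ := ha
        obtain ⟨y, hy, rfl⟩ := hb
        rw [← map_mul, ← map_mul, hKab x hx y hy]
      · exact he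
    have hSc : Subgroup.closure S ≤ Subgroup.centralizer (N : Set (GL ι F)) := by
      refine (Subgroup.closure_le _).mpr fun a ha => Subgroup.mem_centralizer_iff.mpr fun z hz => ?_
      rw [SetLike.mem_coe, ← hSN] at hz
      have hle : Subgroup.closure S ≤ Subgroup.centralizer {a} := (Subgroup.closure_le _).mpr fun b hb => by
        simp [Subgroup.mem_centralizer_iff, hScomm a ha b hb]
      exact (Subgroup.mem_centralizer_iff.mp (hle hz) a rfl).symm
    rw [hSN] at hSc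
    exact hxy (Subgroup.mem_centralizer_iff.mp (hSc hy₀) x₀ hx₀)
  have hKperf : ⁅K, K⁆ = K := OrthNine.Main.perfect_of_minimal hKn hKmin hKnab
  let D : H → Subgroup (GL ι F) := fun h => C (h : GL ι F)
  let I : Set (Subgroup (GL ι F)) := Set.range D
  haveI : Finite I := (Set.finite_range D).to_subtype
  let e : Fin (Nat.card I) ≃ I := (Finite.equivFin I).symm
  let E : Fin (Nat.card I) → Subgroup (GL ι F) := fun i => (e i : Subgroup (GL ι F))
  have hEinj : Function.Injective E := Subtype.val_injective.comp e.injective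
  have hEi : ∀ i, ∃ g, D g = E i := fun i => (e i).2
  have hmul : ∀ g l : H, (D l).map (MulAut.conj (g : GL ι F)).toMonoidHom = D (g * l) := by
    intro g l
    show Subgroup.map _ (Subgroup.map _ _) = Subgroup.map _ _
    rw [Subgroup.map_map]
    congr 1
    ext u
    simp [mul_assoc]
  refine ⟨Nat.card I, E, ⟨?_, fun i => ?_, fun i => ?_, fun i => ?_, fun i j hij x hx y hy => ?_, hEinj,
    fun h hh => ?_, fun i j => ?_, ?_⟩⟩
  · haveI : Nontrivial I := ⟨⟨D 1, 1, rfl⟩, ⟨D ⟨h₁, hh₁⟩, _, rfl⟩, fun he => hk₁' (hC1.mp (by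
      have he' : C 1 = C h₁ := congrArg Subtype.val he
      rw [he']
      exact ⟨k₁, hk₁, rfl⟩))⟩
    exact Finite.one_lt_card
  · obtain ⟨g, hg⟩ := hEi i
    exact hg ▸ (hCN _ g.2).trans hNH
  · obtain ⟨g, hg⟩ := hEi i
    rw [← hg]
    show ⁅Subgroup.map _ _, Subgroup.map _ _⁆ = Subgroup.map _ _
    rw [← Subgroup.map_commutator, hKperf]
  · obtain ⟨g, hg⟩ := hEi i
    rw [← hg]
    intro hsc
    obtain ⟨x, hx, hx1⟩ := (Subgroup.ne_bot_iff_exists_ne_one.mp hK0 |>.elim fun x hx =>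
      (⟨x, x.2, fun h => hx (Subtype.ext h)⟩ : ∃ x, x ∈ K ∧ x ≠ 1))
    have hmem : (g : GL ι F) * x * (g : GL ι F)⁻¹ ∈ C g := ⟨x, hx, rfl⟩
    exact hx1 (conj_eq_one_iff.mp (hs _ (hCN _ g.2 hmem) (hsc hmem)))
  · obtain ⟨g, hg⟩ := hEi i
    obtain ⟨l, hl⟩ := hEi j
    rw [← hg] at hx
    rw [← hl] at hy
    exact (hCinf _ g.2 _ l.2 x hx y hy).resolve_left fun he => hij (hEinj (by rw [← hg, ← hl]; exact he))
  · let f : I → I := fun s => ⟨(s : Subgroup (GL ι F)).map (MulAut.conj h).toMonoidHom, by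
      obtain ⟨g, hg⟩ := s.2
      exact ⟨⟨h, hh⟩ * g, by rw [← hg]; exact (hmul ⟨h, hh⟩ g).symm⟩⟩
    have hf : Function.Injective f := fun s s' he =>
      Subtype.ext (Subgroup.map_injective (MulAut.conj h).injective (congrArg Subtype.val he))
    let σI : I ≃ I := Equiv.ofBijective f hf.bijective_of_finite
    exact ⟨(e.trans σI).trans e.symm, fun i => (congrArg Subtype.val (e.apply_symm_apply (σI (e i)))).symm⟩
  · obtain ⟨g, hg⟩ := hEi i
    obtain ⟨l, hl⟩ := hEi j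
    refine ⟨((l * g⁻¹ : H) : GL ι F), (l * g⁻¹ : H).2, ?_⟩
    rw [← hg, ← hl, hmul, inv_mul_cancel_right]
  · have hsup : (⨆ i, E i) = N := by
      refine le_antisymm (iSup_le fun i => ?_) ?_
      · obtain ⟨g, hg⟩ := hEi i
        exact hg ▸ hCN _ g.2
      · rw [← hSN, Subgroup.closure_le]
        rintro y ⟨h, hh, hy⟩
        refine Subgroup.mem_iSup_of_mem (e.symm ⟨D ⟨h, hh⟩, _, rfl⟩) ?_
        show y ∈ ((e (e.symm _) : I) : Subgroup (GL ι F))
        rw [e.apply_symm_apply]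
        exact hy
    rw [hsup]
    exact habs

end Cfsg.Agent.Lib.OrthOddAny
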