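import Cfsg.Agent.Lib.OrthOddAny.Defs
import Cfsg.Agent.Lib.Similar.SignedClasses
import Cfsg.Agent.Lib.MaxSub.TensorFrameData

/-!
helper24: small facts for the odd-dimensional orthogonal groups: symmetric matrices of odd size are similar up to
a scalar, and over three elements a perfect group of isometries in dimension three is trivial.
-/

set_option autoImplicit false
set_option linter.unusedSectionVars false

namespace Cfsg.Agent.Lib.OrthOddAny

open Matrix Cfsg.Geo
open scoped MatrixGroups Matrix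

variable {F : Type*} [Field F] [Fintype F]

/-- Any two non-degenerate symmetric matrices of one odd size are congruent up to a scalar. -/
theorem exists_similar {k : ℕ} (hk : Odd k) (h2 : (2 : F) ≠ 0) {g g' : Matrix (Fin k) (Fin k) F}
    (hg : gᵀ = g) (hg' : g'ᵀ = g') (hd : g.det ≠ 0) (hd' : g'.det ≠ 0) :
    ∃ (c : F) (R : Matrix (Fin k) (Fin k) F), c ≠ 0 ∧ R.det ≠ 0 ∧ Rᵀ * g * R = c • g' := by
  obtain ⟨j, hj⟩ := hk
  set c : F := g.det * g'.det with hc
  have hc0 : c ≠ 0 := mul_ne_zero hd hd'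
  have hdet : (c • g').det = (c ^ j * g'.det) * (c ^ j * g'.det) * g.det := by
    rw [Matrix.det_smul, Fintype.card_fin,
      show c ^ k = c ^ j * c ^ j * c by rw [← pow_add, ← pow_succ, hj, two_mul]]
    simp only [hc]
    ring
  have hd0 : (c • g').det ≠ 0 := by
    rw [hdet]; exact mul_ne_zero (mul_ne_zero (mul_ne_zero (pow_ne_zero _ hc0) hd')
      (mul_ne_zero (pow_ne_zero _ hc0) hd')) hd
  have hsq : IsSquare g.det ↔ IsSquare (c • g').det := by
    rw [hdet]
    constructor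
    · exact fun h => (IsSquare.mul_self _).mul h
    · intro h
      have hu : c ^ j * g'.det ≠ 0 := mul_ne_zero (pow_ne_zero _ hc0) hd'
      have := h.mul (IsSquare.mul_self (c ^ j * g'.det)⁻¹)
      have e : g.det = c ^ j * g'.det * (c ^ j * g'.det) * g.det *
          ((c ^ j * g'.det)⁻¹ * (c ^ j * g'.det)⁻¹) := by
        rw [show c ^ j * g'.det * (c ^ j * g'.det) * g.det * ((c ^ j * g'.det)⁻¹ * (c ^ j * g'.det)⁻¹) =
          (c ^ j * g'.det * (c ^ j * g'.det)⁻¹) * (c ^ j * g'.det * (c ^ j * g'.det)⁻¹) * g.det by ring,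
          mul_inv_cancel₀ hu, one_mul, one_mul]
      rw [e]; exact this
  obtain ⟨R, hR⟩ := Cfsg.Agent.Lib.Similar.Signed.sym_congr h2 hg
    (by rw [Matrix.transpose_smul, hg']) hd hd0 hsq
  refine ⟨c, R, hc0, fun hR0 => hd0 ?_, hR⟩
  rw [← hR, Matrix.det_mul, hR0, mul_zero]

/-- Over three elements a perfect group preserving a non-degenerate symmetric matrix of size three is trivial. -/
theorem perfect_three (hq : Fintype.card F = 3) {g : Matrix (Fin 3) (Fin 3) F} (hg : gᵀ = g) (hd : g.det ≠ 0)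
    {K : Subgroup (GL (Fin 3) F)} (hperf : ⁅K, K⁆ = K)
    (hiso : ∀ x ∈ K, (x : Matrix (Fin 3) (Fin 3) F)ᵀ * g * (x : Matrix (Fin 3) (Fin 3) F) = g) : K = ⊥ := by
  classical
  let f : (Fin 3 → F) → (Fin 3 → F) → F := fun x y => x ⬝ᵥ (g *ᵥ y)
  have hsymm : ∀ u v, f u v = f v u := fun u v => by
    show u ⬝ᵥ (g *ᵥ v) = v ⬝ᵥ (g *ᵥ u)
    rw [Matrix.dotProduct_mulVec, ← Matrix.mulVec_transpose, hg, dotProduct_comm]
  have hf : IsSymmetricForm f := by
    refine ⟨⟨?_, ?_, ?_, ?_⟩, hsymm, fun v hv => ?_⟩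
    · intro x y v; exact add_dotProduct x y _
    · intro c x v; exact smul_dotProduct c x _
    · intro v x y; simp [f, Matrix.mulVec_add, dotProduct_add]
    · intro c v x; simp [f, Matrix.mulVec_smul, dotProduct_smul]
    · have hgv : g *ᵥ v ≠ 0 := fun h => hv (Matrix.eq_zero_of_mulVec_eq_zero hd h)
      obtain ⟨i, hi⟩ := Function.ne_iff.mp hgv
      have h1 : f (Pi.single i 1) v ≠ 0 := by
        show Pi.single i 1 ⬝ᵥ (g *ᵥ v) ≠ 0
        rw [single_one_dotProduct]; exact hi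
      exact ⟨⟨_, h1⟩, ⟨Pi.single i 1, by rw [hsymm]; exact h1⟩⟩
  obtain ⟨v, d, hd0, hv, hperm⟩ := Cfsg.Agent.Lib.MaxSub.TensorFrame.exists_frame_symm hq hf
  have hmono : ∀ a : K, ∃ (π : Equiv.Perm (Fin 3)) (μ : Fin 3 → F), (∀ i, μ i ≠ 0) ∧
      ∀ i, ((a : GL (Fin 3) F) : Matrix (Fin 3) (Fin 3) F) *ᵥ v i = μ i • v (π i) := fun a => by
    refine hperm a 1 one_ne_zero fun x y => ?_
    rw [one_mul]
    show _ ⬝ᵥ (g *ᵥ _) = x ⬝ᵥ (g *ᵥ y)
    conv_rhs => rw [← hiso a a.2]
    rw [← Matrix.mulVec_mulVec, ← Matrix.mulVec_mulVec, Matrix.dotProduct_mulVec x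
      (((a : GL (Fin 3) F) : Matrix (Fin 3) (Fin 3) F))ᵀ, Matrix.vecMul_transpose]
  choose π μ hμ hπ using hmono
  have huniq : ∀ (i l : Fin 3) (a b : F), a ≠ 0 → a • v i = b • v l → i = l := by
    intro i l a b ha h
    by_contra hil
    have h1 := congrArg (fun z => f z (v i)) h
    simp only [hf.bilinear.smul_left, hv, if_neg (Ne.symm hil), if_pos, mul_zero] at h1
    exact mul_ne_zero ha hd0 h1
  have hmul : ∀ a b : K, π (a * b) = π a * π b := fun a b => Equiv.ext fun i => by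
    refine huniq _ _ (μ (a * b) i) (μ b i * μ a (π b i)) (hμ _ _) ?_
    rw [← hπ, Subgroup.coe_mul, Units.val_mul, ← Matrix.mulVec_mulVec, hπ b, Matrix.mulVec_smul, hπ a, smul_smul]
    rfl
  let ρ : K →* Equiv.Perm (Fin 3) := MonoidHom.mk' π hmul
  have hcomm : ∀ {M : Type} [Monoid M] (φ : K →* M), (∀ x y, φ x * φ y = φ y * φ x) → ∀ x, φ x = 1 := by
    intro M _ φ hφ x
    have hle : K ≤ φ.ker.map K.subtype := hperf.ge.trans (Subgroup.commutator_le.mpr fun a ha b hb => by
      refine Subgroup.mem_map.mpr ⟨(⟨a, ha⟩ : K) * ⟨b, hb⟩ * (⟨a, ha⟩ : K)⁻¹ * (⟨b, hb⟩ : K)⁻¹, ?_, (by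
        simp only [commutatorElement_def, map_mul, map_inv, Subgroup.coe_subtype])⟩
      rw [MonoidHom.mem_ker, map_mul, map_mul, map_mul, hφ ⟨a, ha⟩,
        mul_assoc (φ ⟨b, hb⟩) (φ ⟨a, ha⟩), ← map_mul, mul_inv_cancel, map_one, mul_one, ← map_mul, mul_inv_cancel,
        map_one])
    obtain ⟨y, hy, hyx⟩ := hle x.2
    rw [← Subtype.ext hyx]; exact hy
  have hsign : ∀ n, Equiv.Perm.sign (ρ n) = 1 := fun n =>
    hcomm (Equiv.Perm.sign.comp ρ) (fun x y => mul_comm _ _) n
  have hρ : ∀ n, π n = 1 := hcomm ρ fun x y => by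
    have hA3 : ∀ p q : Equiv.Perm (Fin 3), Equiv.Perm.sign p = 1 → Equiv.Perm.sign q = 1 → p * q = q * p := by
      decide
    exact hA3 _ _ (hsign x) (hsign y)
  have hli : LinearIndependent F v := Fintype.linearIndependent_iff.mpr fun c hc i => by
    let φ : (Fin 3 → F) →ₗ[F] F :=
      { toFun := fun z => f z (v i)
        map_add' := fun x y => hf.bilinear.add_left x y (v i)
        map_smul' := fun c x => hf.bilinear.smul_left c x (v i) }
    have h := congrArg φ hc
    rw [map_sum, map_zero] at h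
    rw [Finset.sum_eq_single i (fun j _ hj => by
      rw [map_smul]; show c j • f (v j) (v i) = 0; rw [hv, if_neg hj, smul_zero])
      (fun h => absurd (Finset.mem_univ _) h), map_smul] at h
    have h' : c i * f (v i) (v i) = 0 := h
    rw [hv, if_pos rfl] at h'
    exact (mul_eq_zero.mp h').resolve_right hd0
  let bv := basisOfLinearIndependentOfCardEqFinrank hli (by simp)
  have hab : ∀ x y : K, x * y = y * x := by
    intro x y
    refine Subtype.ext (Units.ext (Matrix.toLin'.injective (bv.ext fun i => ?_)))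
    simp only [Subgroup.coe_mul, Units.val_mul, Matrix.toLin'_apply, bv,
      coe_basisOfLinearIndependentOfCardEqFinrank, ← Matrix.mulVec_mulVec, hπ, hρ, Equiv.Perm.one_apply,
      Matrix.mulVec_smul, smul_smul, mul_comm]
  refine (Subgroup.eq_bot_iff_forall _).mpr fun x hx => ?_
  have hbot : ⁅K, K⁆ = ⊥ := eq_bot_iff.mpr (Subgroup.commutator_le.mpr fun a ha b hb => by
    rw [Subgroup.mem_bot, commutatorElement_eq_one_iff_mul_comm]
    exact congrArg Subtype.val (hab ⟨a, ha⟩ ⟨b, hb⟩))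
  rw [← hperf, hbot, Subgroup.mem_bot] at hx
  exact hx

end Cfsg.Agent.Lib.OrthOddAny
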