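import Cfsg.Agent.Lib.OrthOddAny.Defs
import Cfsg.Agent.Lib.OrthOddAny.Small
import Cfsg.Agent.Lib.OrthNine.Homog
import Cfsg.Agent.Lib.SLTwoPrime.Core

/-!
# A normal subgroup with repeated absolutely irreducible constituent gives a tensor decomposition
-/

set_option autoImplicit false
set_option linter.unusedSectionVars false
set_option linter.unusedVariables false
set_option linter.style.haveILetI false

namespace Cfsg.Agent.Lib.OrthOddAny

open Matrix Module QuadraticMap Cfsg.Agent.Lib.MaxSub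
open Cfsg.Agent.Lib.MaxTensor (assemble normalizer_le_tensor_coord)
open Cfsg.Agent.Lib.TwoPrimeDim (centre homogeneous)
open Cfsg.Agent.Lib.Geometry (quad_polar_comm)
open Cfsg.Agent.Lib.OrthNine.Homog (assemble_single)
open scoped MatrixGroups Matrix Kronecker

attribute [-simp] QuadraticMap.polarBilin_apply_apply

variable {ι : Type} [Fintype ι] [DecidableEq ι] {F : Type*} [Field F]
  {Q : QuadraticForm F (ι → F)} (hN : (polarBilin Q).Nondegenerate)

local notation "MM" => Matrix ι ι F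

namespace Pair

/-- The form of a matrix. -/
def matForm {d : ℕ} (β : Matrix (Fin d) (Fin d) F) (x y : Fin d → F) : F := x ⬝ᵥ β *ᵥ y

theorem gram_matForm {d : ℕ} (β : Matrix (Fin d) (Fin d) F) : Cfsg.Geo.gramMatrix (matForm β) = β := by
  ext a b
  simp [Cfsg.Geo.gramMatrix, matForm]

theorem matForm_symm {d : ℕ} {β : Matrix (Fin d) (Fin d) F} (hs : βᵀ = β) (hd : β.det ≠ 0) :
    Cfsg.Geo.IsSymmetricForm (matForm β) := by
  have hcomm : ∀ u v, matForm β u v = matForm β v u := fun u v => by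
    simp only [matForm]
    rw [Matrix.dotProduct_mulVec, ← Matrix.mulVec_transpose, hs, dotProduct_comm]
  refine ⟨⟨fun x y v => add_dotProduct x y _, fun c x v => smul_dotProduct c x _,
    fun v x y => by simp only [matForm, Matrix.mulVec_add, dotProduct_add],
    fun c v x => by simp only [matForm, Matrix.mulVec_smul, dotProduct_smul, smul_eq_mul]⟩, hcomm, fun v hv => ?_⟩
  have hne : β *ᵥ v ≠ 0 := fun h => hv (Matrix.mulVec_injective_iff_isUnit.mpr
    ((Matrix.isUnit_iff_isUnit_det β).mpr hd.isUnit) (h.trans (Matrix.mulVec_zero _).symm))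
  obtain ⟨i, hi⟩ := Function.ne_iff.mp hne
  have h1 : matForm β (Pi.single i 1) v ≠ 0 := by rw [matForm, single_one_dotProduct]; exact hi
  exact ⟨⟨_, h1⟩, _, (hcomm v _).trans_ne h1⟩

include hN in
/-- The Gram matrix of copies of a self-dual module is a Kronecker product. -/
theorem exists_gram [Fintype F] {N : Subgroup (GL ι F)} (hiso : N ≤ Cfsg.isometryGroup F ⇑Q) {d k : ℕ} (hdo : Odd d)
    (hk : 0 < k) (A : N → Matrix (Fin d) (Fin d) F) (φ : Fin k → (Fin d → F) →ₗ[F] (ι → F))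
    (hirr : ∀ U : Submodule F (Fin d → F), (∀ n, ∀ u ∈ U, A n *ᵥ u ∈ U) → U = ⊥ ∨ U = ⊤)
    (hscal : ∀ X : Matrix (Fin d) (Fin d) F, (∀ n, X * A n = A n * X) → ∃ c : F, X = c • 1)
    (hequiv : ∀ j (n : N) x, ((n : GL ι F) : MM) *ᵥ φ j x = φ j (A n *ᵥ x))
    (hbij : Function.Bijective (assemble φ)) :
    ∃ (β : Matrix (Fin d) (Fin d) F) (C : Matrix (Fin k) (Fin k) F), βᵀ = β ∧ β.det ≠ 0 ∧ Cᵀ = C ∧ C.det ≠ 0 ∧
      (∀ n, (A n)ᵀ * β * A n = β) ∧ (∀ n, (A n).det ≠ 0) ∧
      ∀ v w, polarBilin Q (assemble φ v) (assemble φ w) = ∑ i, ∑ j, C i j * (v i ⬝ᵥ β *ᵥ w j) := by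
  classical
  have hd : 0 < d := hdo.pos
  let z₀ : Fin d → F := Pi.single ⟨0, hd⟩ 1
  let j₀' : Fin k := ⟨0, hk⟩
  let β : Fin k → Fin k → Matrix (Fin d) (Fin d) F := fun i j =>
    Matrix.of fun l m => polarBilin Q (φ i (Pi.single l 1)) (φ j (Pi.single m 1))
  have hval : ∀ i j x y, polarBilin Q (φ i x) (φ j y) = x ⬝ᵥ β i j *ᵥ y := by
    intro i j x y
    conv_lhs => rw [pi_eq_sum_univ' x, pi_eq_sum_univ' y]
    simp only [map_sum, map_smul, LinearMap.sum_apply, LinearMap.smul_apply, smul_eq_mul, dotProduct, Matrix.mulVec,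
      Finset.mul_sum, β, Matrix.of_apply]
    rw [Finset.sum_comm]
    exact Finset.sum_congr rfl fun l _ => Finset.sum_congr rfl fun m _ => by ring
  have hinv : ∀ i j (n : N), (A n)ᵀ * β i j * A n = β i j := by
    intro i j n
    ext l m
    have h := Orth.iso_polar (hiso n.2) (φ i (Pi.single l 1)) (φ j (Pi.single m 1))
    rw [hequiv, hequiv, hval, Matrix.mulVec_mulVec, Matrix.mulVec_single_one, Matrix.mulVec_single_one] at h
    have e : β i j l m = polarBilin Q (φ i (Pi.single l 1)) (φ j (Pi.single m 1)) := rfl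
    rw [e, ← h, Matrix.mul_assoc, Matrix.mul_apply]
    simp [dotProduct, Matrix.col]
  have hβT : ∀ i j, β j i = (β i j)ᵀ := fun i j => by
    ext l m
    simp only [β, Matrix.of_apply, Matrix.transpose_apply]
    exact quad_polar_comm Q _ _
  have hφinj : Function.Injective (φ j₀') := fun x y h =>
    Pi.single_injective (M := fun _ => Fin d → F) j₀' (hbij.1 (by rw [assemble_single, assemble_single, h]))
  have hAdet : ∀ n, (A n).det ≠ 0 := fun n => by
    refine ((Matrix.isUnit_iff_isUnit_det _).mp (Matrix.mulVec_injective_iff_isUnit.mp fun x y hxy => ?_)).ne_zero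
    exact hφinj (Matrix.mulVec_injective_iff_isUnit.mpr (n : GL ι F).isUnit (by
      show ((n : GL ι F) : MM) *ᵥ φ j₀' x = ((n : GL ι F) : MM) *ᵥ φ j₀' y
      rw [hequiv, hequiv]; exact congrArg _ hxy))
  obtain ⟨i₀, j₀, hne⟩ : ∃ i j, β i j ≠ 0 := by
    by_contra hc
    push Not at hc
    have hall : ∀ z, polarBilin Q (φ j₀' z₀) z = 0 := fun z => by
      obtain ⟨w, rfl⟩ := hbij.2 z
      simp [assemble, map_sum, hval, hc]
    have h0 := congrFun (hφinj ((hN.1 _ hall).trans (map_zero _).symm)) ⟨0, hd⟩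
    simp [z₀] at h0
  set β₀ := β i₀ j₀ with hβ₀
  have hβ₀u : β₀.det ≠ 0 := by
    have hker : LinearMap.ker (Matrix.toLin' β₀) = ⊥ := by
      refine (hirr _ fun n u hu => ?_).resolve_right fun htop => hne (Matrix.toLin'.injective (by
        rw [LinearMap.ker_eq_top.mp htop, map_zero]))
      rw [LinearMap.mem_ker, Matrix.toLin'_apply] at hu ⊢
      refine funext fun l => ?_
      have hunit : (A n)ᵀ.det ≠ 0 := by rw [Matrix.det_transpose]; exact hAdet n
      have h1 : (A n)ᵀ *ᵥ (β₀ *ᵥ (A n *ᵥ u)) = 0 := by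
        rw [Matrix.mulVec_mulVec, Matrix.mulVec_mulVec, hinv, hu]
      exact congrFun (Matrix.mulVec_injective_iff_isUnit.mpr ((Matrix.isUnit_iff_isUnit_det _).mpr hunit.isUnit)
        (h1.trans (Matrix.mulVec_zero _).symm)) l
    intro h0
    obtain ⟨v, hv0, hv⟩ := Matrix.exists_mulVec_eq_zero_iff.mpr h0
    exact hv0 ((Submodule.eq_bot_iff _).mp hker v (by rw [LinearMap.mem_ker, Matrix.toLin'_apply, hv]))
  have hschur : ∀ X : Matrix (Fin d) (Fin d) F, (∀ n, (A n)ᵀ * X * A n = X) → ∃ c : F, X = c • β₀ := by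
    intro X hX
    obtain ⟨c, hc⟩ := hscal (β₀⁻¹ * X) fun n => by
      have hu : IsUnit (A n)ᵀ.det := by rw [Matrix.det_transpose]; exact (hAdet n).isUnit
      have e1 : X * A n = ((A n)ᵀ)⁻¹ * X := by
        conv_rhs => rw [← hX n, Matrix.mul_assoc, Matrix.nonsing_inv_mul_cancel_left _ _ hu]
      have e2 : β₀ * A n = ((A n)ᵀ)⁻¹ * β₀ := by
        have h0 : (A n)ᵀ * β₀ * A n = β₀ := hinv i₀ j₀ n
        conv_rhs => arg 2; rw [← h0]
        rw [Matrix.mul_assoc, Matrix.nonsing_inv_mul_cancel_left _ _ hu]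
      have e3 : A n * β₀⁻¹ = β₀⁻¹ * ((A n)ᵀ)⁻¹ := by
        have := congrArg (fun M => β₀⁻¹ * M * β₀⁻¹) e2
        simpa only [Matrix.nonsing_inv_mul_cancel_left _ _ hβ₀u.isUnit, ← Matrix.mul_assoc,
          Matrix.mul_nonsing_inv_cancel_right _ _ hβ₀u.isUnit, Matrix.nonsing_inv_mul _ hβ₀u.isUnit,
          Matrix.one_mul] using this
      rw [Matrix.mul_assoc, e1, ← Matrix.mul_assoc, ← Matrix.mul_assoc, e3]
    refine ⟨c, ?_⟩
    have := congrArg (fun M => β₀ * M) hc
    simpa only [Matrix.mul_nonsing_inv_cancel_left _ _ hβ₀u.isUnit, Matrix.mul_smul, Matrix.mul_one] using this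
  choose C hC using fun i j => hschur (β i j) (hinv i j)
  obtain ⟨l₁, m₁, hlm⟩ : ∃ l m, β₀ l m ≠ 0 := by
    by_contra hh
    push Not at hh
    exact hne (Matrix.ext hh)
  have hβsym : β₀ᵀ = β₀ := by
    obtain ⟨c, hc⟩ := hschur β₀ᵀ (fun n => by rw [← hβT]; exact hinv _ _ n)
    have h1 := congrArg Matrix.transpose hc
    rw [Matrix.transpose_transpose, Matrix.transpose_smul, hc, smul_smul] at h1
    have hc2 : c * c = 1 := by
      have := congrFun (congrFun h1 l₁) m₁
      rw [Matrix.smul_apply, smul_eq_mul] at this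
      exact ((mul_eq_right₀ hlm).mp this.symm)
    have hdet := congrArg Matrix.det hc
    rw [Matrix.det_transpose, Matrix.det_smul, Fintype.card_fin] at hdet
    have hcd : c ^ d = 1 := (mul_eq_right₀ hβ₀u).mp hdet.symm
    obtain ⟨m, hm⟩ := hdo
    have : c = 1 := by rwa [hm, pow_succ, pow_mul, pow_two, hc2, one_pow, one_mul] at hcd
    rw [hc, this, one_smul]
  let Cm : Matrix (Fin k) (Fin k) F := Matrix.of C
  have hCsym : Cmᵀ = Cm := by
    ext i j
    have h := congrFun (congrFun (hβT i j) l₁) m₁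
    rw [hC j i, hC i j, Matrix.transpose_apply, Matrix.smul_apply, Matrix.smul_apply, smul_eq_mul, smul_eq_mul,
      show β₀ m₁ l₁ = β₀ l₁ m₁ from congrFun (congrFun hβsym l₁) m₁] at h
    exact mul_right_cancel₀ hlm h
  have hsum : ∀ v w, polarBilin Q (assemble φ v) (assemble φ w) = ∑ i, ∑ j, Cm i j * (v i ⬝ᵥ β₀ *ᵥ w j) := by
    intro v w
    simp only [assemble, LinearMap.coe_mk, AddHom.coe_mk, map_sum, LinearMap.sum_apply, hval]
    rw [Finset.sum_comm]
    refine Finset.sum_congr rfl fun i _ => Finset.sum_congr rfl fun j _ => ?_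
    rw [hC, Matrix.smul_mulVec, dotProduct_smul, smul_eq_mul]
    rfl
  have hCdet : Cm.det ≠ 0 := by
    intro h0
    obtain ⟨v, hv0, hv⟩ := Matrix.exists_mulVec_eq_zero_iff.mpr h0
    obtain ⟨j, hj⟩ := Function.ne_iff.mp hv0
    let w : Fin k → Fin d → F := fun j => v j • z₀
    have hzero : assemble φ w = 0 := hN.2 _ fun z => by
      obtain ⟨u, rfl⟩ := hbij.2 z
      show polarBilin Q (assemble φ u) (assemble φ w) = 0
      rw [hsum]
      refine Finset.sum_eq_zero fun i _ => ?_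
      calc ∑ j, Cm i j * (u i ⬝ᵥ β₀ *ᵥ w j) = (∑ j, Cm i j * v j) * (u i ⬝ᵥ β₀ *ᵥ z₀) := by
            rw [Finset.sum_mul]
            refine Finset.sum_congr rfl fun j _ => ?_
            simp only [w, Matrix.mulVec_smul, dotProduct_smul, smul_eq_mul]
            ring
        _ = 0 := by rw [show ∑ j, Cm i j * v j = 0 from congrFun hv i, zero_mul]
    have := congrFun (congrFun (hbij.1 (hzero.trans (map_zero _).symm)) j) ⟨0, hd⟩
    simp [w, z₀] at this
    exact hj this
  exact ⟨β₀, Cm, hβsym, hβ₀u, hCsym, hCdet, hinv i₀ j₀, hAdet, hsum⟩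

/-- In tensor coordinates the polar form is the Kronecker product form. -/
theorem polar_coord {d k : ℕ} {φ : Fin k → (Fin d → F) →ₗ[F] (ι → F)} {β : Matrix (Fin d) (Fin d) F}
    {C : Matrix (Fin k) (Fin k) F}
    (hsum : ∀ v w, polarBilin Q (assemble φ v) (assemble φ w) = ∑ i, ∑ j, C i j * (v i ⬝ᵥ β *ᵥ w j))
    {e : ι ≃ Fin d × Fin k} {P : GL ι F}
    (hP : ∀ x : Fin d × Fin k → F, (P : MM) *ᵥ (x ∘ e) = assemble φ (fun j i => x (i, j)))
    (x y : Fin d × Fin k → F) :
    QuadraticMap.polar ⇑Q ((P : MM) *ᵥ (x ∘ e)) ((P : MM) *ᵥ (y ∘ e)) =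
      Cfsg.Geo.formOfGram id (β ⊗ₖ C) x y := by
  rw [← polarBilin_apply_apply, hP, hP, hsum]
  simp only [Cfsg.Geo.formOfGram, dotProduct, Matrix.mulVec, Finset.mul_sum, Fintype.sum_prod_type, id,
    Matrix.kroneckerMap_apply]
  conv_lhs => enter [2, i]; rw [Finset.sum_comm]
  rw [Finset.sum_comm]
  refine Finset.sum_congr rfl fun a _ => Finset.sum_congr rfl fun i _ => ?_
  rw [Finset.sum_comm]
  exact Finset.sum_congr rfl fun b _ => Finset.sum_congr rfl fun j _ => by ring

/-- A perfect group has perfect image. -/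
theorem range_perfect {G K : Type*} [Group G] [Group K] {N : Subgroup G} (hperf : ⁅N, N⁆ = N) (f : N →* K) :
    ⁅f.range, f.range⁆ = f.range := by
  have h : ⁅(⊤ : Subgroup N), ⊤⁆ = ⊤ := Subgroup.map_injective N.subtype_injective (by
    rw [Subgroup.map_commutator, ← MonoidHom.range_eq_map, Subgroup.range_subtype]; exact hperf)
  rw [MonoidHom.range_eq_map, ← Subgroup.map_commutator, h]

/-- Tensor coordinates with equal factors lie in a tensor wreath group. -/
theorem le_wreath {d : ℕ} (e : ι ≃ Fin d × Fin d) (P : GL ι F) :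
    Cfsg.Geo.tensorProductSubgroup d d e P ≤
      Cfsg.Geo.tensorWreathSubgroup d 2 (e.trans (finTwoArrowEquiv (Fin d)).symm) P := by
  rintro _ ⟨_, ⟨g, ⟨a, b, hg⟩, rfl⟩, rfl⟩
  refine ⟨_, ⟨Cfsg.Geo.glReindex (finTwoArrowEquiv (Fin d)).symm g,
    Subgroup.subset_closure (Or.inl ⟨![a, b], fun x y => ?_⟩), rfl⟩, ?_⟩
  · show (Matrix.reindex (finTwoArrowEquiv (Fin d)).symm (finTwoArrowEquiv (Fin d)).symm g.val) x y = _
    rw [hg]
    simp [Fin.prod_univ_two]
  · congr 1

end Pair

open Pair in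
include hN in
/-- A normal subgroup with scalar centre of its commutant which is not absolutely irreducible gives a tensor member. -/
theorem pair_geo [Fintype F] (h2 : (2 : F) ≠ 0) (hodd : Odd (Fintype.card ι)) {H N : Subgroup (GL ι F)}
    (hiso : H ≤ Cfsg.isometryGroup F ⇑Q) (hirr : Cfsg.Geo.ActsIrreducibly (Cfsg.Geo.matrixSet H))
    (hNH : N ≤ H) (hnor : ∀ h ∈ H, ∀ x ∈ N, h * x * h⁻¹ ∈ N) (hperf : ⁅N, N⁆ = N) (hN0 : N ≠ ⊥)
    (hs : ∀ x ∈ N, x ∈ Cfsg.Geo.scalars ι F → x = 1) (hc : ∀ M ∈ centre N, ∃ c : F, M = c • (1 : MM))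
    (hnabs : ¬ Cfsg.Geo.ActsAbsolutelyIrreducibly (Cfsg.Geo.matrixSet N)) : InGeo Q H := by
  classical
  haveI : Nonempty ι := Fintype.card_pos_iff.mp hodd.pos
  obtain ⟨d, k, A, φ, hdk, hd, hk, hirrA, hscal, heq, hbij⟩ := homogeneous hirr hnor hc
  rw [← hdk] at hodd
  obtain ⟨hdo, hko⟩ := Nat.odd_mul.mp hodd
  by_cases hd1 : d = 1
  · subst hd1
    refine absurd ((Subgroup.eq_bot_iff_forall _).mpr fun x hx => hs x hx ?_) hN0
    refine Cfsg.Agent.Lib.KnownA.PrimeDim.mem_scalars_of_matrix Fintype.card_pos (c := A ⟨x, hx⟩ 0 0)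
      (Cfsg.Agent.Lib.KnownA.PrimeDim.eq_smul_one fun v => ?_)
    obtain ⟨u, rfl⟩ := hbij.2 v
    simp only [assemble, LinearMap.coe_mk, AddHom.coe_mk, Matrix.mulVec_sum, Finset.smul_sum]
    refine Finset.sum_congr rfl fun j _ => ?_
    rw [heq j ⟨x, hx⟩, ← map_smul]
    congr 1
    funext i
    fin_cases i
    simp [Matrix.mulVec, dotProduct]
  by_cases hk1 : k = 1
  · subst hk1
    refine absurd ?_ hnabs
    have hsurj : Function.Surjective (φ 0) := fun v => by
      obtain ⟨u, rfl⟩ := hbij.2 v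
      exact ⟨u 0, by simp [assemble]⟩
    have hinj : Function.Injective (φ 0) := fun x y h =>
      Pi.single_injective (M := fun _ => Fin d → F) 0 (hbij.1 (by rw [assemble_single, assemble_single, h]))
    let E : (Fin d → F) ≃ₗ[F] (ι → F) := LinearEquiv.ofBijective (φ 0) ⟨hinj, hsurj⟩
    have hE : ∀ x, E x = φ 0 x := fun x => rfl
    refine ⟨(Cfsg.Agent.Lib.TwoPrimeDim.actsIrreducibly_iff N).mpr fun W hW => ?_, fun M hM => ?_⟩
    · rcases hirrA (W.comap (φ 0)) (fun n u hu => by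
        rw [Submodule.mem_comap] at hu ⊢
        rw [← heq]; exact hW n n.2 _ hu) with h | h
      · refine Or.inl ((Submodule.eq_bot_iff _).mpr fun w hw => ?_)
        obtain ⟨x, rfl⟩ := hsurj w
        have : x ∈ W.comap (φ 0) := hw
        rw [h, Submodule.mem_bot] at this
        rw [this, map_zero]
      · refine Or.inr (eq_top_iff.mpr fun w _ => ?_)
        obtain ⟨x, rfl⟩ := hsurj w
        exact (h.symm ▸ trivial : x ∈ W.comap (φ 0))
    · let X : Matrix (Fin d) (Fin d) F :=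
        LinearMap.toMatrix' (E.symm.toLinearMap ∘ₗ Matrix.toLin' M ∘ₗ E.toLinearMap)
      have hX : ∀ x, E (X *ᵥ x) = M *ᵥ E x := fun x => by
        rw [← Matrix.toLin'_apply X, Matrix.toLin'_toMatrix']
        simp [Matrix.toLin'_apply]
      obtain ⟨c, hcX⟩ := hscal X fun n => Matrix.ext_of_mulVec_single fun i => E.injective (by
        rw [← Matrix.mulVec_mulVec, ← Matrix.mulVec_mulVec, hX, hE, hE, ← heq, ← heq, Matrix.mulVec_mulVec,
          hM _ ⟨n, n.2, rfl⟩, ← Matrix.mulVec_mulVec, ← hE, ← hE, hX])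
      refine ⟨c, Cfsg.Agent.Lib.KnownA.PrimeDim.eq_smul_one fun v => ?_⟩
      obtain ⟨x, rfl⟩ := E.surjective v
      rw [← hX, hcX, Matrix.smul_mulVec, Matrix.one_mulVec, map_smul]
  have hd3 : 3 ≤ d := by obtain ⟨m, hm⟩ := hdo; omega
  have hk3 : 3 ≤ k := by obtain ⟨m, hm⟩ := hko; omega
  obtain ⟨β, C, hβs, hβd, hCs, hCd, hAβ, hAdet, hsum⟩ :=
    exists_gram hN (hNH.trans hiso) hdo hk A φ hirrA hscal heq hbij
  have hnormal : ∀ h ∈ H, h ∈ Subgroup.normalizer (N : Set (GL ι F)) := fun h hh => by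
    refine Subgroup.mem_normalizer_iff.mpr fun y => ⟨hnor h hh y, fun hy => ?_⟩
    have := hnor h⁻¹ (inv_mem hh) _ hy
    simpa [mul_assoc] using this
  rcases lt_trichotomy d k with hlt | hdk' | hgt
  · obtain ⟨e, P, hP, hle⟩ := normalizer_le_tensor_coord A hirrA hscal φ heq hbij
    exact Or.inr (Or.inr (Or.inr (Or.inr (Or.inr (Or.inl ⟨d, k, e, P, matForm β, matForm C, hd3, hlt,
      matForm_symm hβs hβd, matForm_symm hCs hCd, ⟨1, one_ne_zero, fun x y => by
        rw [polar_coord hsum hP, gram_matForm, gram_matForm, one_mul]⟩, fun h hh => hle h (hnormal h hh)⟩)))))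
  · subst hdk'
    obtain ⟨c, R, hc0, hR, hRC⟩ := exists_similar hdo h2 hCs hβs hCd hβd
    let φ' : Fin d → (Fin d → F) →ₗ[F] (ι → F) := fun l => ∑ j, R j l • φ j
    have hφ' : ∀ v, assemble φ' v = assemble φ (fun j => ∑ l, R j l • v l) := fun v => by
      simp only [assemble, φ', LinearMap.coe_mk, AddHom.coe_mk, LinearMap.sum_apply, LinearMap.smul_apply, map_sum,
        map_smul]
      rw [Finset.sum_comm]
    have heq' : ∀ j (n : N) x, ((n : GL ι F) : MM) *ᵥ φ' j x = φ' j (A n *ᵥ x) := fun j n x => by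
      simp only [φ', LinearMap.sum_apply, LinearMap.smul_apply, Matrix.mulVec_sum, Matrix.mulVec_smul, heq]
    have hinj' : Function.Injective (assemble φ') := (injective_iff_map_eq_zero _).mpr fun v hv => by
      rw [hφ'] at hv
      have h0 := hbij.1 (hv.trans (map_zero _).symm)
      have hRv : R * Matrix.of v = 0 := by
        ext j i
        rw [Matrix.mul_apply]
        simpa [Finset.sum_apply] using congrFun (congrFun h0 j) i
      have := congrArg (fun M => R⁻¹ * M) hRv
      simp only [Matrix.nonsing_inv_mul_cancel_left _ _ hR.isUnit, Matrix.mul_zero] at this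
      exact this
    have hbij' : Function.Bijective (assemble φ') := ⟨hinj', (LinearMap.injective_iff_surjective_of_finrank_eq_finrank
      (by simp [Module.finrank_fintype_fun_eq_card, Module.finrank_pi_fintype, hdk])).mp hinj'⟩
    have hsum' : ∀ v w, polarBilin Q (assemble φ' v) (assemble φ' w) =
        ∑ i, ∑ j, (c • β) i j * (v i ⬝ᵥ β *ᵥ w j) := fun v w => by
      rw [hφ', hφ', hsum, ← hRC]
      simp only [Matrix.mulVec_sum, Matrix.mulVec_smul, dotProduct_sum, sum_dotProduct, smul_dotProduct,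
        dotProduct_smul, smul_eq_mul, Finset.mul_sum, Finset.sum_mul, Matrix.mul_apply, Matrix.transpose_apply]
      calc _ = ∑ i, ∑ j, ∑ a, ∑ b, C i j * (R i a * (R j b * (v a ⬝ᵥ β *ᵥ w b))) := by
            refine Finset.sum_congr rfl fun i _ => Finset.sum_congr rfl fun j _ => ?_
            rw [Finset.sum_comm]
            exact Finset.sum_congr rfl fun a _ => Finset.sum_congr rfl fun b _ => by ring
        _ = ∑ a, ∑ b, ∑ j, ∑ i, C i j * (R i a * (R j b * (v a ⬝ᵥ β *ᵥ w b))) := by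
            rw [Finset.sum_comm_cycle]
            refine Finset.sum_congr rfl fun a _ => ?_
            rw [Finset.sum_comm_cycle]
            exact Finset.sum_congr rfl fun b _ => Finset.sum_comm
        _ = _ := Finset.sum_congr rfl fun a _ => Finset.sum_congr rfl fun b _ => Finset.sum_congr rfl fun j _ =>
            Finset.sum_congr rfl fun i _ => by ring
    obtain ⟨e, P, hP, hle⟩ := normalizer_le_tensor_coord A hirrA hscal φ' heq' hbij'
    refine Or.inr (Or.inr (Or.inr (Or.inr (Or.inr (Or.inr (Or.inr ⟨d, 2,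
      e.trans (finTwoArrowEquiv (Fin d)).symm, P, matForm β, hd3, le_rfl, ?_, matForm_symm hβs hβd,
      ⟨c, hc0, fun x y => ?_⟩, fun h hh => le_wreath e P (hle h (hnormal h hh))⟩))))))
    · rintro ⟨hq, rfl⟩
      apply hN0
      have hφ0 : Function.Injective (φ 0) := fun x y h =>
        Pi.single_injective (M := fun _ => Fin 3 → F) 0 (hbij.1 (by rw [assemble_single, assemble_single, h]))
      have hmul : ∀ n m : N, A (n * m) = A n * A m := fun n m => Matrix.ext_of_mulVec_single fun i => hφ0 (by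
        rw [← Matrix.mulVec_mulVec, ← heq, ← heq, ← heq, Matrix.mulVec_mulVec]; rfl)
      let f : N →* GL (Fin 3) F :=
        MonoidHom.mk' (fun n => Matrix.GeneralLinearGroup.mkOfDetNeZero (A n) (hAdet n))
          fun n m => Units.ext (hmul n m)
      have hbot := perfect_three hq hβs hβd (range_perfect hperf f) (by
        rintro _ ⟨n, rfl⟩; exact hAβ n)
      rw [Subgroup.eq_bot_iff_forall]
      intro x hx
      have hA1 : A ⟨x, hx⟩ = 1 := congrArg Units.val
        ((Subgroup.eq_bot_iff_forall _).mp hbot (f ⟨x, hx⟩) ⟨_, rfl⟩)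
      refine Units.ext (Matrix.ext_of_mulVec_single fun i => ?_)
      obtain ⟨u, hu⟩ := hbij.2 (Pi.single i 1)
      rw [← hu, Units.val_one, Matrix.one_mulVec]
      simp only [assemble, LinearMap.coe_mk, AddHom.coe_mk, Matrix.mulVec_sum]
      exact Finset.sum_congr rfl fun j _ => by rw [heq j ⟨x, hx⟩, hA1, Matrix.one_mulVec]
    · have hx : ∀ z : (Fin 2 → Fin d) → F, z ∘ (e.trans (finTwoArrowEquiv (Fin d)).symm) =
          (z ∘ (finTwoArrowEquiv (Fin d)).symm) ∘ e := fun z => rfl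
      rw [hx, hx, polar_coord hsum' hP, Cfsg.Geo.formOfGram, Finset.mul_sum]
      refine Fintype.sum_equiv (finTwoArrowEquiv (Fin d)).symm _ _ fun a => ?_
      rw [Finset.mul_sum]
      refine Fintype.sum_equiv (finTwoArrowEquiv (Fin d)).symm _ _ fun b => ?_
      simp [gram_matForm, Fin.prod_univ_two]
      ring
  · obtain ⟨e, P, hP, hle⟩ := normalizer_le_tensor_coord A hirrA hscal φ heq hbij
    exact Or.inr (Or.inr (Or.inr (Or.inr (Or.inr (Or.inl ⟨k, d, e.trans (Equiv.prodComm _ _), P, matForm C,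
      matForm β, hk3, hgt, matForm_symm hCs hCd, matForm_symm hβs hβd, ⟨1, one_ne_zero, fun x y => by
        have hx : ∀ z : Fin k × Fin d → F, z ∘ (e.trans (Equiv.prodComm _ _)) =
            (z ∘ Equiv.prodComm _ _) ∘ e := fun z => rfl
        rw [hx, hx, polar_coord hsum hP, gram_matForm, gram_matForm, one_mul]
        refine Fintype.sum_equiv (Equiv.prodComm _ _) _ _ fun a => ?_
        refine Fintype.sum_equiv (Equiv.prodComm _ _) _ _ fun b => ?_
        simp only [Matrix.kroneckerMap_apply, Equiv.prodComm_apply, Function.comp_apply, id, Prod.fst_swap,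
          Prod.snd_swap]
        ring⟩,
      fun h hh => SLTwoPrime.tensor_swap e P (hle h (hnormal h hh))⟩)))))

end Cfsg.Agent.Lib.OrthOddAny
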