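import Cfsg.Agent.Lib.OrthOddAny.Defs
import Cfsg.Agent.Lib.PrimeDim.OrthProper

/-!
helper24: a reducible group of isometries in odd characteristic fixes a totally singular or a non-degenerate subspace.
-/

set_option autoImplicit false
set_option linter.unusedSectionVars false

namespace Cfsg.Agent.Lib.OrthOddAny

open Matrix Cfsg.Geo
open Cfsg.Agent.Lib.MaxSub
open Cfsg.Agent.Lib.Geometry (quad_polar_self)
open QuadraticMap (polarBilin polarBilin_apply_apply)
open scoped MatrixGroups Matrix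

attribute [-simp] QuadraticMap.polarBilin_apply_apply

variable {ι : Type} [Fintype ι] [DecidableEq ι] {F : Type*} [Field F] [Fintype F]
  {Q : QuadraticForm F (ι → F)} {H : Subgroup (GL ι F)}

/-- A reducible group of isometries lies in a member of the first two classes. -/
theorem reducible_geo (hN : (polarBilin Q).Nondegenerate) (h2 : (2 : F) ≠ 0)
    (hiso : H ≤ Cfsg.isometryGroup F ⇑Q) (hirr : ¬ ActsIrreducibly (matrixSet H)) : InGeo Q H := by
  classical
  rw [ActsIrreducibly] at hirr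
  push Not at hirr
  obtain ⟨W, hW, hb, ht⟩ := hirr
  have hWi : ∀ g ∈ H, ∀ w ∈ W, (g : Matrix ι ι F) *ᵥ w ∈ W := fun g hg w hw =>
    hW _ ⟨g, hg, rfl⟩ ⟨w, hw, Matrix.toLin'_apply _ _⟩
  set Wp := LinearMap.BilinForm.orthogonal (polarBilin Q) W with hWp
  have hperp : ∀ g ∈ H, ∀ z ∈ Wp, (g : Matrix ι ι F) *ᵥ z ∈ Wp := by
    intro g hg z hz y hy
    obtain ⟨y', hy', rfl⟩ : ∃ y' ∈ W, (g : Matrix ι ι F) *ᵥ y' = y :=
      ⟨((g⁻¹ : GL ι F) : Matrix ι ι F) *ᵥ y, hWi _ (H.inv_mem hg) y hy, by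
        rw [Matrix.mulVec_mulVec, ← Units.val_mul, mul_inv_cancel, Units.val_one, Matrix.one_mulVec]⟩
    show polarBilin Q _ _ = 0
    rw [Orth.iso_polar (hiso hg)]
    exact hz y' hy'
  by_cases hrad : W ⊓ Wp = ⊥
  · refine Or.inr (Or.inl ⟨W, hb, ht, fun w hw hw0 => ?_,
      fun g hg => Cfsg.Agent.Lib.PrimeDim.OrthProper.mem_stabilizer_of_maps (hWi g hg)⟩)
    obtain ⟨x, hx, hxw⟩ : ∃ x ∈ W, polarBilin Q x w ≠ 0 := by
      by_contra hh
      push Not at hh
      exact hw0 ((Submodule.eq_bot_iff _).mp hrad w ⟨hw, hh⟩)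
    refine ⟨⟨x, hx, ?_⟩, ⟨x, hx, ?_⟩⟩
    · rwa [← polarBilin_apply_apply]
    · rw [QuadraticMap.polar_comm, ← polarBilin_apply_apply]; exact hxw
  · refine Or.inl ⟨W ⊓ Wp, hrad, fun z hz => ?_, fun g hg =>
      Cfsg.Agent.Lib.PrimeDim.OrthProper.mem_stabilizer_of_maps fun w hw => ⟨hWi g hg w hw.1, hperp g hg w hw.2⟩⟩
    have h1 : polarBilin Q z z = 0 := hz.2 z hz.1
    rw [quad_polar_self] at h1
    exact (mul_eq_zero.mp h1).resolve_left h2

end Cfsg.Agent.Lib.OrthOddAny
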