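import Cfsg.Agent.Lib.OrthOddAny.Defs
import Cfsg.Agent.Lib.OrthNine.Tensor
import Cfsg.Agent.Lib.TwoPrimeDim.Homogeneous
import Cfsg.Agent.Lib.KnownA.PrimeDim.Clifford

/-!
A normal subgroup of isometries in odd dimension with scalar centre of the commutant: its double centraliser is a
matrix algebra on which the adjoint is given by a symmetric matrix.
-/

set_option autoImplicit false
set_option linter.unusedSectionVars false
set_option linter.style.haveILetI false

namespace Cfsg.Agent.Lib.OrthOddAny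

open Matrix Module Cfsg.Geo QuadraticMap
open Cfsg.Agent.Lib.MaxTensor (assemble)
open Cfsg.Agent.Lib.TwoPrimeDim (centre mem_centre mem_commutant homogeneous)
open Cfsg.Agent.Lib.Geometry (quad_polar_comm)
open scoped MatrixGroups Matrix

attribute [-simp] QuadraticMap.polarBilin_apply_apply

variable {ι : Type} [Fintype ι] [DecidableEq ι] {F : Type*} [Field F] [Fintype F]
  {Q : QuadraticForm F (ι → F)}

local notation "MM" => Matrix ι ι F

theorem assemble_pi_single {d k : ℕ} (φ : Fin k → (Fin d → F) →ₗ[F] (ι → F)) (j : Fin k) (x : Fin d → F) :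
    assemble φ (Pi.single j x) = φ j x := by
  simp only [assemble, LinearMap.coe_mk, AddHom.coe_mk]
  rw [Finset.sum_eq_single j (fun l _ hl => by rw [Pi.single_eq_of_ne hl, map_zero])
    (fun h => absurd (Finset.mem_univ _) h), Pi.single_eq_same]

/-- The double centraliser of a normal subgroup is a matrix algebra with an orthogonal adjoint. -/
theorem exists_slot (hN : (polarBilin Q).Nondegenerate) (h2 : (2 : F) ≠ 0) (hodd : Odd (Fintype.card ι))
    {G K : Subgroup (GL ι F)} (hG : ActsIrreducibly (matrixSet G)) (hKG : ∀ g ∈ G, ∀ x ∈ K, g * x * g⁻¹ ∈ K)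
    (hc : ∀ M ∈ centre K, ∃ c : F, M = c • (1 : MM)) (hKiso : K ≤ Cfsg.isometryGroup F ⇑Q)
    (hns : ¬ K ≤ scalars ι F) :
    ∃ (k : ℕ) (L : Matrix (Fin k) (Fin k) F →ₐ[F] Matrix ι ι F) (g : Matrix (Fin k) (Fin k) F),
      Odd k ∧ 3 ≤ k ∧ k ∣ Fintype.card ι ∧ Function.Injective L ∧ L.range = dcent K ∧
      (∀ x ∈ K, ∃ X, L X = (x : MM) ∧ Xᵀ * g * X = g) ∧ gᵀ = g ∧ g.det ≠ 0 ∧
      ∀ X u v, QuadraticMap.polar (⇑Q) (L X *ᵥ u) v = QuadraticMap.polar (⇑Q) u (L (g⁻¹ * Xᵀ * g) *ᵥ v) := by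
  classical
  haveI : Nonempty ι := Fintype.card_pos_iff.mp hodd.pos
  obtain ⟨d, k, A, φ, hdk, hd, hk, hirr, hscal, heq, hbij⟩ := homogeneous hG hKG hc
  have hdodd : Odd d := (Nat.odd_mul.1 (hdk ▸ hodd)).1
  let W := Fin k → Fin d → F
  let E : W ≃ₗ[F] (ι → F) := LinearEquiv.ofBijective _ hbij
  have hE : ∀ v, E v = assemble φ v := fun v => rfl
  have hEs : ∀ j x, E (Pi.single j x) = φ j x := fun j x => assemble_pi_single φ j x
  have hx : ∀ (n : K) v, ((n : GL ι F) : MM) *ᵥ E v = E (fun j => A n *ᵥ v j) := fun n v => by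
    simp only [hE, assemble, LinearMap.coe_mk, AddHom.coe_mk, Matrix.mulVec_sum, heq]
  have hext : ∀ X Y : MM, (∀ v, X *ᵥ E v = Y *ᵥ E v) → X = Y := fun X Y h =>
    Matrix.ext_of_mulVec_single fun i => by
      obtain ⟨v, hv⟩ := E.surjective (Pi.single i 1)
      rw [← hv]; exact h v
  have hext1 : ∀ X Y : MM, (∀ j x, X *ᵥ E (Pi.single j x) = Y *ᵥ E (Pi.single j x)) → X = Y := fun X Y h =>
    hext X Y fun v => by
      rw [← Finset.univ_sum_single v, map_sum, Matrix.mulVec_sum, Matrix.mulVec_sum]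
      exact Finset.sum_congr rfl fun j _ => h j (v j)
  let toM : (W →ₗ[F] W) →ₗ[F] MM := LinearMap.toMatrix'.toLinearMap ∘ₗ (E.conj).toLinearMap
  have htoM : ∀ (T : W →ₗ[F] W) v, toM T *ᵥ E v = E (T v) := fun T v => by
    rw [← Matrix.toLin'_apply (toM T)]
    simp [toM, LinearEquiv.conj_apply]
  let L0 : Matrix (Fin d) (Fin d) F →ₗ[F] MM :=
    { toFun := fun M => toM (LinearMap.pi fun j => Matrix.toLin' M ∘ₗ LinearMap.proj j)
      map_add' := fun M M' => hext _ _ fun v => by
        rw [htoM, Matrix.add_mulVec, htoM, htoM, ← map_add]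
        congr 1; funext j; simp only [map_add]; rfl
      map_smul' := fun c M => hext _ _ fun v => by
        rw [htoM, RingHom.id_apply, Matrix.smul_mulVec, htoM, ← map_smul]
        congr 1; funext j; simp only [map_smul]; rfl }
  have hL0 : ∀ M v, L0 M *ᵥ E v = E (fun j => M *ᵥ v j) := fun M v => by
    show toM _ *ᵥ E v = _
    rw [htoM]; congr 1
  let L : Matrix (Fin d) (Fin d) F →ₐ[F] MM := AlgHom.ofLinearMap L0
    (hext _ _ fun v => by rw [hL0, Matrix.one_mulVec]; simp)
    fun M M' => hext _ _ fun v => by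
      rw [hL0, ← Matrix.mulVec_mulVec, hL0, hL0]
      simp only [Matrix.mulVec_mulVec]
  have hL : ∀ M v, L M *ᵥ E v = E (fun j => M *ᵥ v j) := hL0
  have hLs : ∀ M j x, L M *ᵥ E (Pi.single j x) = E (Pi.single j (M *ᵥ x)) := fun M j x => by
    rw [hL]; congr 1; funext l
    rcases eq_or_ne l j with rfl | hl
    · simp
    · simp [Pi.single_eq_of_ne hl]
  have hLA : ∀ n : K, L (A n) = ((n : GL ι F) : MM) := fun n => hext _ _ fun v => by rw [hL, hx]
  have hLinj : Function.Injective L := fun M M' h => Matrix.ext_of_mulVec_single fun i => by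
    have := congrArg (· *ᵥ E (fun _ => Pi.single i 1)) h
    simp only [hL] at this
    exact congrFun (E.injective this) ⟨0, hk⟩
  -- the double centraliser
  have hcomT : ∀ (T : W →ₗ[F] W), (∀ M v, T (fun j => M *ᵥ v j) = fun j => M *ᵥ T v j) →
      ∀ g ∈ K, (g : MM) * toM T = toM T * (g : MM) := fun T hT g hg => hext _ _ fun v => by
    rw [← Matrix.mulVec_mulVec, ← Matrix.mulVec_mulVec, htoM, hx ⟨g, hg⟩, hx ⟨g, hg⟩, htoM, hT]
  have hrange : L.range = dcent K := by
    ext Y
    rw [AlgHom.mem_range, dcent, Subalgebra.mem_centralizer_iff]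
    constructor
    · rintro ⟨X, rfl⟩ M hM
      rw [SetLike.mem_coe, mem_commutant] at hM
      refine hext1 _ _ fun j x => ?_
      rw [← Matrix.mulVec_mulVec, ← Matrix.mulVec_mulVec, hLs]
      let B : Fin k → Matrix (Fin d) (Fin d) F := fun i =>
        LinearMap.toMatrix' (LinearMap.proj i ∘ₗ E.symm.toLinearMap ∘ₗ Matrix.toLin' M ∘ₗ E.toLinearMap ∘ₗ
          LinearMap.single F (fun _ : Fin k => Fin d → F) j)
      have hB : ∀ i y, B i *ᵥ y = E.symm (M *ᵥ E (Pi.single j y)) i := fun i y => by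
        rw [← Matrix.toLin'_apply (B i), Matrix.toLin'_toMatrix']
        show E.symm (Matrix.toLin' M (E (Pi.single j y))) i = _
        rw [Matrix.toLin'_apply]
      have hME : ∀ y, M *ᵥ E (Pi.single j y) = E (fun i => B i *ᵥ y) := fun y => by
        rw [show (fun i => B i *ᵥ y) = E.symm (M *ᵥ E (Pi.single j y)) from funext fun i => hB i y,
          LinearEquiv.apply_symm_apply]
      have hBc : ∀ i, ∃ c : F, B i = c • 1 := fun i => hscal _ fun n => Matrix.ext_of_mulVec_single fun l => by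
        have h := congrArg (· *ᵥ E (Pi.single j (Pi.single l 1))) (hM _ n.2)
        simp only [← Matrix.mulVec_mulVec, hME, hx] at h
        rw [show (fun i => A n *ᵥ (Pi.single j (Pi.single l 1) : W) i) = Pi.single j (A n *ᵥ Pi.single l 1) by
          funext i
          rcases eq_or_ne i j with rfl | hi
          · simp
          · simp [Pi.single_eq_of_ne hi]] at h
        rw [hME] at h
        have h' := congrFun (E.injective h) i
        rw [← Matrix.mulVec_mulVec, ← Matrix.mulVec_mulVec]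
        exact h'.symm
      choose c hcB using hBc
      rw [hME, hME, hL]
      congr 1
      funext i
      simp only [hcB, Matrix.smul_mulVec, Matrix.one_mulVec, Matrix.mulVec_smul]
    · intro hY
      have hYT : ∀ (T : W →ₗ[F] W), (∀ M v, T (fun j => M *ᵥ v j) = fun j => M *ᵥ T v j) →
          ∀ w, Y *ᵥ E (T w) = toM T *ᵥ (Y *ᵥ E w) := fun T hT w => by
        have h := hY (toM T) (mem_commutant.2 (hcomT T hT))
        rw [← htoM, Matrix.mulVec_mulVec, Matrix.mulVec_mulVec, h]
      let j0 : Fin k := ⟨0, hk⟩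
      let X : Matrix (Fin d) (Fin d) F :=
        LinearMap.toMatrix' (LinearMap.proj j0 ∘ₗ E.symm.toLinearMap ∘ₗ Matrix.toLin' Y ∘ₗ E.toLinearMap ∘ₗ
          LinearMap.single F (fun _ : Fin k => Fin d → F) j0)
      have hX : ∀ y, X *ᵥ y = E.symm (Y *ᵥ E (Pi.single j0 y)) j0 := fun y => by
        rw [← Matrix.toLin'_apply X, Matrix.toLin'_toMatrix']
        show E.symm (Matrix.toLin' Y (E (Pi.single j0 y))) j0 = _
        rw [Matrix.toLin'_apply]
      refine ⟨X, hext1 _ _ fun j x => ?_⟩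
      let T : W →ₗ[F] W := LinearMap.single F (fun _ : Fin k => Fin d → F) j ∘ₗ LinearMap.proj j0
      have hTv : ∀ v, T v = Pi.single j (v j0) := fun v => rfl
      have h := hYT T (fun M v => by
        funext l
        rw [hTv, hTv]
        rcases eq_or_ne l j with rfl | hl
        · simp
        · simp [Pi.single_eq_of_ne hl]) (Pi.single j0 x)
      rw [hTv, Pi.single_eq_same] at h
      rw [h, hLs, ← E.apply_symm_apply (Y *ᵥ E (Pi.single j0 x)), htoM, hTv, hX]
  -- the forms between the copies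
  let β : Fin k → Fin k → Matrix (Fin d) (Fin d) F := fun i j =>
    Matrix.of fun l m => polarBilin Q (φ i (Pi.single l 1)) (φ j (Pi.single m 1))
  have hval : ∀ i j x y, polarBilin Q (φ i x) (φ j y) = x ⬝ᵥ β i j *ᵥ y := by
    intro i j x y
    conv_lhs => rw [pi_eq_sum_univ' x, pi_eq_sum_univ' y]
    simp only [map_sum, map_smul, LinearMap.sum_apply, LinearMap.smul_apply, smul_eq_mul, dotProduct, Matrix.mulVec,
      Finset.mul_sum, β, Matrix.of_apply]
    rw [Finset.sum_comm]
    exact Finset.sum_congr rfl fun l _ => Finset.sum_congr rfl fun m _ => by ring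
  have hinv : ∀ i j (n : K), (A n)ᵀ * β i j * A n = β i j := by
    intro i j n
    ext l m
    have h := MaxSub.Orth.iso_polar (hKiso n.2) (φ i (Pi.single l 1)) (φ j (Pi.single m 1))
    rw [heq, heq, hval, Matrix.mulVec_mulVec, Matrix.mulVec_single_one, Matrix.mulVec_single_one] at h
    have e : β i j l m = polarBilin Q (φ i (Pi.single l 1)) (φ j (Pi.single m 1)) := rfl
    rw [e, ← h, Matrix.mul_assoc, Matrix.mul_apply]
    simp [dotProduct, Matrix.col]
  obtain ⟨i₀, j₀, hne⟩ : ∃ i j, β i j ≠ 0 := by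
    by_contra hc0
    push Not at hc0
    have hall : ∀ z, polarBilin Q (φ ⟨0, hk⟩ (Pi.single ⟨0, hd⟩ 1)) z = 0 := fun z => by
      obtain ⟨w, rfl⟩ := hbij.2 z
      simp [assemble, map_sum, hval, hc0]
    have h0 := hN.1 _ hall
    have := hbij.1 (((assemble_pi_single φ _ _).trans h0).trans (map_zero (assemble φ)).symm)
    have := congrFun (congrFun this ⟨0, hk⟩) ⟨0, hd⟩
    simp at this
  set β₀ := β i₀ j₀ with hβ₀
  have hAdet : ∀ n, (A n).det ≠ 0 := fun n => by
    have hinjA : Function.Injective (A n).mulVec := by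
      intro x y hxy
      have h1 := hx n (Pi.single ⟨0, hk⟩ x - Pi.single ⟨0, hk⟩ y)
      rw [show (fun j => A n *ᵥ (Pi.single ⟨0, hk⟩ x - Pi.single ⟨0, hk⟩ y : W) j) = 0 from funext fun j => by
        rcases eq_or_ne j ⟨0, hk⟩ with rfl | hj
        · show A n *ᵥ ((Pi.single _ x : W) _ - (Pi.single _ y : W) _) = 0
          simp [Matrix.mulVec_sub, hxy]
        · show A n *ᵥ ((Pi.single _ x : W) j - (Pi.single _ y : W) j) = 0
          simp [Pi.single_eq_of_ne hj], map_zero] at h1
      have h2' := E.injective ((Matrix.mulVec_injective_iff_isUnit.mpr (n : GL ι F).isUnit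
        (h1.trans (Matrix.mulVec_zero _).symm)).trans (map_zero E).symm)
      exact Pi.single_injective (M := fun _ => Fin d → F) _ (sub_eq_zero.1 h2')
    exact ((Matrix.isUnit_iff_isUnit_det _).mp (Matrix.mulVec_injective_iff_isUnit.mp hinjA)).ne_zero
  have hβ₀u : β₀.det ≠ 0 := by
    intro h0
    obtain ⟨v, hv0, hv⟩ := Matrix.exists_mulVec_eq_zero_iff.mpr h0
    have hker : LinearMap.ker (Matrix.toLin' β₀) = ⊥ := by
      refine (hirr _ fun n u hu => ?_).resolve_right fun htop => hne (Matrix.toLin'.injective (by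
        rw [LinearMap.ker_eq_top.mp htop, map_zero]))
      rw [LinearMap.mem_ker, Matrix.toLin'_apply] at hu ⊢
      refine Matrix.mulVec_injective_iff_isUnit.mpr ((Matrix.isUnit_iff_isUnit_det _).mpr
        (by rw [Matrix.det_transpose]; exact (hAdet n).isUnit : IsUnit (A n)ᵀ.det)) ?_
      rw [Matrix.mulVec_mulVec, Matrix.mulVec_mulVec, hinv, hu, Matrix.mulVec_zero]
    exact hv0 ((Submodule.eq_bot_iff _).mp hker v (by rw [LinearMap.mem_ker, Matrix.toLin'_apply, hv]))
  have hschur : ∀ X : Matrix (Fin d) (Fin d) F, (∀ n, (A n)ᵀ * X * A n = X) → ∃ c : F, X = c • β₀ := by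
    intro X hX
    obtain ⟨c, hc'⟩ := hscal (β₀⁻¹ * X) fun n => by
      have hu : IsUnit (A n)ᵀ.det := by rw [Matrix.det_transpose]; exact (hAdet n).isUnit
      have e1 : X * A n = ((A n)ᵀ)⁻¹ * X := by
        conv_rhs => rw [← hX n, Matrix.mul_assoc, Matrix.nonsing_inv_mul_cancel_left _ _ hu]
      have e2 : β₀ * A n = ((A n)ᵀ)⁻¹ * β₀ := by
        have h0 : (A n)ᵀ * β₀ * A n = β₀ := hinv i₀ j₀ n
        conv_rhs => arg 2; rw [← h0]
        rw [Matrix.mul_assoc, Matrix.nonsing_inv_mul_cancel_left _ _ hu]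
      have e3 : A n * β₀⁻¹ = β₀⁻¹ * ((A n)ᵀ)⁻¹ := by
        have := congrArg (fun M => β₀⁻¹ * M * β₀⁻¹) e2
        simpa only [Matrix.nonsing_inv_mul_cancel_left _ _ hβ₀u.isUnit, ← Matrix.mul_assoc,
          Matrix.mul_nonsing_inv_cancel_right _ _ hβ₀u.isUnit, Matrix.nonsing_inv_mul _ hβ₀u.isUnit,
          Matrix.one_mul] using this
      rw [Matrix.mul_assoc, e1, ← Matrix.mul_assoc, ← Matrix.mul_assoc, e3]
    refine ⟨c, ?_⟩
    have := congrArg (fun M => β₀ * M) hc'
    simpa only [Matrix.mul_nonsing_inv_cancel_left _ _ hβ₀u.isUnit, Matrix.mul_smul, Matrix.mul_one] using this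
  choose C hC using fun i j => hschur (β i j) (hinv i j)
  have hsym : β₀ᵀ = β₀ := by
    have hT : β₀ᵀ = β j₀ i₀ := by
      ext l m
      simp only [hβ₀, β, Matrix.of_apply, Matrix.transpose_apply]
      exact quad_polar_comm Q _ _
    obtain ⟨c, hc'⟩ := hschur β₀ᵀ (fun n => by rw [hT]; exact hinv _ _ n)
    have h1 := congrArg Matrix.transpose hc'
    rw [Matrix.transpose_transpose, Matrix.transpose_smul, hc', smul_smul] at h1
    obtain ⟨l, m, hlm⟩ : ∃ l m, β₀ l m ≠ 0 := by
      by_contra hh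
      push Not at hh
      exact hne (Matrix.ext hh)
    have hc2 : c * c = 1 := by
      have := congrFun (congrFun h1 l) m
      rw [Matrix.smul_apply, smul_eq_mul] at this
      exact (mul_eq_right₀ hlm).mp this.symm
    have hdet := congrArg Matrix.det hc'
    rw [Matrix.det_transpose, Matrix.det_smul, Fintype.card_fin] at hdet
    have hcd : c ^ d = 1 := (mul_eq_right₀ hβ₀u).mp hdet.symm
    obtain ⟨r, hr⟩ := hdodd
    rw [hr, pow_succ, pow_mul, pow_two, hc2, one_pow, one_mul] at hcd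
    rw [hc', hcd, one_smul]
  have hd3 : 3 ≤ d := by
    rcases hdodd with ⟨r, hr⟩
    rcases Nat.eq_zero_or_pos r with h0 | hr0
    · obtain rfl : d = 1 := by omega
      refine absurd (fun x hx' => ?_) hns
      refine Cfsg.Agent.Lib.KnownA.PrimeDim.mem_scalars_of_matrix Fintype.card_pos (c := A ⟨x, hx'⟩ 0 0) ?_
      refine hext _ _ fun v => ?_
      rw [hx ⟨x, hx'⟩, Matrix.smul_mulVec, Matrix.one_mulVec, ← map_smul]
      congr 1
      funext j i
      fin_cases i
      simp [Matrix.mulVec, dotProduct]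
      rfl
    · omega
  refine ⟨d, L, β₀, hdodd, hd3, Dvd.intro k hdk, hLinj, hrange,
    fun x hx' => ⟨A ⟨x, hx'⟩, hLA _, hinv _ _ _⟩, hsym, hβ₀u, fun X u v => ?_⟩
  obtain ⟨a, rfl⟩ := E.surjective u
  obtain ⟨b, rfl⟩ := E.surjective v
  show polarBilin Q _ _ = polarBilin Q _ _
  rw [hL, hL]
  simp only [hE, assemble, LinearMap.coe_mk, AddHom.coe_mk, map_sum, LinearMap.sum_apply, hval, hC]
  refine Finset.sum_congr rfl fun i _ => Finset.sum_congr rfl fun j _ => ?_
  have hu : IsUnit β₀.det := hβ₀u.isUnit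
  simp only [Matrix.smul_mulVec, dotProduct_smul, Matrix.mulVec_mulVec, Matrix.smul_mul]
  rw [← Matrix.vecMul_transpose, ← Matrix.dotProduct_mulVec, Matrix.mulVec_mulVec, Matrix.mul_assoc,
    Matrix.mul_nonsing_inv_cancel_left _ _ hu]

end Cfsg.Agent.Lib.OrthOddAny
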