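import Cfsg.Agent.Lib.OrthOddAny.Defs
import Cfsg.Agent.Lib.LinearAny.Factors

/-!
# Commuting permuted matrix-algebra factors with symmetric adjoints give a tensor wreath product
-/

set_option autoImplicit false
set_option linter.unusedSectionVars false
set_option maxHeartbeats 1600000

namespace Cfsg.Agent.Lib.OrthOddAny

open Cfsg Cfsg.Geo Matrix
open Cfsg.Agent.Lib.LinearAny (ptens ptens_mul ptens_one ptens_single ptensU pmat pmat_conj pmatU)
open scoped Matrix

variable {ι : Type} [Fintype ι] [DecidableEq ι] {F : Type*} [Field F] {t d : ℕ}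

local notation "Md" => Matrix (Fin d) (Fin d) F
local notation "Mt" => Matrix (Fin t → Fin d) (Fin t → Fin d) F
local notation "Mn" => Matrix ι ι F

lemma ptens_transpose (f : Fin t → Md) : (ptens f)ᵀ = ptens fun i => (f i)ᵀ := by
  ext x y
  simp [ptens]

lemma single_eq_ptens (x y : Fin t → Fin d) :
    (Matrix.single x y 1 : Mt) = ptens fun i => Matrix.single (x i) (y i) 1 := by
  ext a b
  simp only [ptens, Matrix.of_apply, Matrix.single_apply]
  by_cases h : x = a ∧ y = b
  · rw [if_pos h]
    obtain ⟨rfl, rfl⟩ := h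
    simp
  · rw [if_neg h]
    rw [not_and_or] at h
    rcases h with h | h <;> obtain ⟨i, hi⟩ := Function.ne_iff.1 h <;>
      exact (Finset.prod_eq_zero (Finset.mem_univ i) (if_neg (by simp [hi]))).symm

/-- What commutes with the factors is scalar. -/
lemma tens_scalar {M : Mt} (hM : ∀ i a, M * ptens (Pi.mulSingle i a) = ptens (Pi.mulSingle i a) * M) :
    ∃ c : F, M = c • 1 := by
  have h : ∀ f : Fin t → Md, Commute M (ptens f) := by
    intro f
    suffices ∀ s : Finset (Fin t), Commute M (ptens fun i => if i ∈ s then f i else 1) by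
      simpa using this Finset.univ
    intro s
    induction s using Finset.induction_on with
    | empty =>
      simp only [Finset.notMem_empty, if_false]
      rw [show (fun _ : Fin t => (1 : Md)) = 1 from rfl, ptens_one]
      exact Commute.one_right M
    | insert a s ha ih =>
      have := Commute.mul_right (hM a (f a) : Commute M (ptens (Pi.mulSingle a (f a)))) ih
      rw [ptens_mul] at this
      refine (?_ : (fun i => if i ∈ insert a s then f i else 1) = (Pi.mulSingle a (f a) * fun i => if i ∈ s then f i else 1)) ▸ this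
      funext i
      rcases eq_or_ne i a with rfl | hi
      · simp [ha]
      · simp [hi]
  obtain ⟨c, hc⟩ := Matrix.mem_range_scalar_of_commute_single (M := M) fun x y _ => by
    show Commute (Matrix.single x y 1) M
    rw [single_eq_ptens]; exact (h _).symm
  exact ⟨c, by rw [← hc]; ext a b; simp [Matrix.diagonal, Matrix.one_apply]⟩

/-- Commuting copies of a matrix algebra generate their tensor power. -/
theorem exists_tensor_hom_idem [Nonempty ι] (hd : 0 < d) (φ : Fin t → Md →ₐ[F] Mn)
    (hc : ∀ i j, i ≠ j → ∀ a b, φ i a * φ j b = φ j b * φ i a)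
    (hsc : ∀ M : Mn, (∀ i a, M * φ i a = φ i a * M) → M * M = M → M = 0 ∨ M = 1) :
    ∃ Φ : Mt →ₐ[F] Mn, ∀ i a, Φ (ptens (Pi.mulSingle i a)) = φ i a := by
  classical
  have hcc : ∀ (f g : Fin t → Md) (i j : Fin t), i ≠ j → Commute (φ i (f i)) (φ j (g j)) :=
    fun f g i j hij => hc i j hij _ _
  have hpw : ∀ (f : Fin t → Md) (s : Finset (Fin t)),
      (s : Set (Fin t)).Pairwise (Function.onFun Commute fun i => φ i (f i)) :=
    fun f s i _ j _ hij => hcc f f i j hij
  let pp : (Fin t → Md) → Mn := fun f => Finset.univ.noncommProd (fun i => φ i (f i)) (hpw f _)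
  have pp_mul : ∀ f g, pp f * pp g = pp (f * g) := by
    intro f g
    refine ((Finset.noncommProd_congr rfl (fun i _ => ?_) (hpw (f * g) _)).trans
      (Finset.noncommProd_mul_distrib (fun i => φ i (f i)) (fun i => φ i (g i)) (hpw f _) (hpw g _)
        (fun i _ j _ hij => hcc g f i j hij))).symm
    simp
  have pp_split : ∀ (f : Fin t → Md) (i : Fin t), pp f = φ i (f i) *
      (Finset.univ.erase i).noncommProd (fun j => φ j (f j)) (hpw f _) :=
    fun f i => (Finset.mul_noncommProd_erase _ (Finset.mem_univ i) _ _).symm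
  have pp_left : ∀ f i a, φ i a * pp f = pp (Function.update f i (a * f i)) := by
    intro f i a
    rw [pp_split f i, pp_split (Function.update f i (a * f i)) i, Function.update_self, map_mul, mul_assoc]
    congr 2
    exact Finset.noncommProd_congr rfl (fun j hj => by rw [Function.update_of_ne (Finset.ne_of_mem_erase hj)]) _
  have pp_right : ∀ f i a, pp f * φ i a = pp (Function.update f i (f i * a)) := by
    intro f i a
    rw [pp_split f i, pp_split (Function.update f i (f i * a)) i, Function.update_self, map_mul, mul_assoc,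
      mul_assoc]
    congr 1
    rw [← (Finset.noncommProd_commute (Finset.univ.erase i) (fun j => φ j (f j)) (hpw f _) (φ i a)
      (fun j hj => hc i j (Finset.ne_of_mem_erase hj).symm _ _)).eq]
    congr 1
    exact Finset.noncommProd_congr rfl (fun j hj => by rw [Function.update_of_ne (Finset.ne_of_mem_erase hj)]) _
  have pp_zero : ∀ f i, f i = 0 → pp f = 0 := fun f i h => by rw [pp_split f i, h, map_zero, zero_mul]
  let Ψ : (Fin t → Fin d) → (Fin t → Fin d) → Mn := fun x y => pp fun i => Matrix.single (x i) (y i) 1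
  have Ψ_mul : ∀ x y u v, Ψ x y * Ψ u v = if y = u then Ψ x v else 0 := by
    intro x y u v
    rw [show Ψ x y * Ψ u v = _ from pp_mul _ _]
    split_ifs with h
    · subst h
      exact congrArg pp (funext fun i => by simp)
    · obtain ⟨i, hi⟩ := Function.ne_iff.1 h
      exact pp_zero _ i (by simp [Matrix.single_mul_single_of_ne, hi])
  have Ψ_left : ∀ i p q z, φ i (Matrix.single p q 1) * Ψ z z =
      if z i = q then Ψ (Function.update z i p) z else 0 := by
    intro i p q z
    rw [show φ i (Matrix.single p q 1) * Ψ z z = _ from pp_left _ _ _]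
    split_ifs with h
    · subst h
      refine congrArg pp (funext fun j => ?_)
      rcases eq_or_ne j i with rfl | hj
      · simp
      · simp [Function.update_of_ne hj]
    · exact pp_zero _ i (by simp [Matrix.single_mul_single_of_ne, Ne.symm h])
  have Ψ_right : ∀ i p q z, Ψ z z * φ i (Matrix.single p q 1) =
      if z i = p then Ψ z (Function.update z i q) else 0 := by
    intro i p q z
    rw [show Ψ z z * φ i (Matrix.single p q 1) = _ from pp_right _ _ _]
    split_ifs with h
    · subst h
      refine congrArg pp (funext fun j => ?_)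
      rcases eq_or_ne j i with rfl | hj
      · simp
      · simp [Function.update_of_ne hj]
    · exact pp_zero _ i (by simp [Matrix.single_mul_single_of_ne, h])
  have Ψ_ne : ∀ z, Ψ z z ≠ 0 := by
    intro z
    suffices ∀ s : Finset (Fin t), s.noncommProd (fun i => φ i (Matrix.single (z i) (z i) 1))
        (hpw (fun i => Matrix.single (z i) (z i) 1) s) ≠ 0 from this Finset.univ
    intro s
    induction s using Finset.induction_on with
    | empty => exact one_ne_zero
    | insert a s has ih =>
      intro h0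
      replace h0 := (Finset.noncommProd_insert_of_notMem s a (fun i => φ i (Matrix.single (z i) (z i) 1))
        (hpw (fun i => Matrix.single (z i) (z i) 1) _) has).symm.trans h0
      apply ih
      set R := s.noncommProd (fun i => φ i (Matrix.single (z i) (z i) 1))
        (hpw (fun i => Matrix.single (z i) (z i) 1) s)
      have hR : ∀ b, Commute (φ a b) R := fun b => Finset.noncommProd_commute _ _ _ _ fun i hi =>
        hc a i (fun e => has (e ▸ hi)) _ _
      have key : ∀ p, φ a (Matrix.single p p 1) * R = 0 := fun p => by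
        rw [show Matrix.single p p (1 : F) =
            Matrix.single p (z a) 1 * Matrix.single (z a) (z a) 1 * Matrix.single (z a) p 1 by simp,
          map_mul, map_mul, mul_assoc, (hR _).eq, ← mul_assoc, mul_assoc (φ a _) (φ a _) R, h0, mul_zero, zero_mul]
      have h1 : (1 : Md) = ∑ p, Matrix.single p p 1 := by
        ext i j
        simp [Matrix.one_apply, Matrix.sum_apply, Matrix.single_apply, ite_and]
      calc R = φ a 1 * R := by rw [map_one, one_mul]
        _ = 0 := by rw [h1, map_sum, Finset.sum_mul]; simp [key]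
  let Φ₀ : Mt →ₗ[F] Mn :=
    { toFun := fun X => ∑ x, ∑ y, X x y • Ψ x y
      map_add' := fun X Y => by simp [add_smul, Finset.sum_add_distrib]
      map_smul' := fun c X => by simp [mul_smul, Finset.smul_sum] }
  have hΦmul : ∀ X Y, Φ₀ (X * Y) = Φ₀ X * Φ₀ Y := by
    intro X Y
    show ∑ x, ∑ v, (X * Y) x v • Ψ x v = (∑ x, ∑ y, X x y • Ψ x y) * (∑ u, ∑ v, Y u v • Ψ u v)
    rw [Finset.sum_mul]
    refine Finset.sum_congr rfl fun x _ => ?_
    have key : ∀ y, X x y • Ψ x y * (∑ u, ∑ v, Y u v • Ψ u v) = ∑ v, (X x y * Y y v) • Ψ x v := by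
      intro y
      simp only [Finset.mul_sum, smul_mul_smul_comm, Ψ_mul]
      rw [Finset.sum_eq_single y (fun b _ hb => by simp [Ne.symm hb]) (fun h => absurd (Finset.mem_univ y) h)]
      simp
    rw [Finset.sum_mul, Finset.sum_congr rfl fun y _ => key y, Finset.sum_comm]
    refine Finset.sum_congr rfl fun v _ => ?_
    rw [Matrix.mul_apply, Finset.sum_smul]
  set E : Mn := ∑ z, Ψ z z with hE
  have hEcomm : ∀ i p q, E * φ i (Matrix.single p q 1) = φ i (Matrix.single p q 1) * E := by
    intro i p q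
    rw [hE, Finset.sum_mul, Finset.mul_sum]
    simp only [Ψ_left, Ψ_right, ← Finset.sum_filter]
    refine Finset.sum_nbij' (fun z => Function.update z i q) (fun z => Function.update z i p) ?_ ?_ ?_ ?_ ?_
    · intro z hz; simp
    · intro z hz; simp
    · intro z hz
      simp at hz
      simp [Function.update_idem, ← hz]
    · intro z hz
      simp at hz
      simp [Function.update_idem, ← hz]
    · intro z hz
      simp at hz
      simp [Function.update_idem, ← hz]
  have hφsum : ∀ i a, φ i a = ∑ p, ∑ q, a p q • φ i (Matrix.single p q 1) := by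
    intro i a
    conv_lhs => rw [Matrix.matrix_eq_sum_single a]
    simp only [map_sum]
    refine Finset.sum_congr rfl fun p _ => Finset.sum_congr rfl fun q _ => ?_
    rw [← map_smul, Matrix.smul_single, smul_eq_mul, mul_one]
  have hE1 : E = 1 := by
    let z : Fin t → Fin d := fun _ => ⟨0, hd⟩
    have hEz : ∀ z, E * Ψ z z = Ψ z z := fun z => by rw [hE, Finset.sum_mul]; simp [Ψ_mul]
    refine (hsc E (fun i a => by
      simp only [hφsum i a, Finset.mul_sum, Finset.sum_mul, mul_smul_comm, smul_mul_assoc, hEcomm]) ?_).resolve_left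
      fun h0 => Ψ_ne z (by rw [← hEz z, h0, zero_mul])
    conv_lhs => arg 2; rw [hE]
    rw [Finset.mul_sum]
    exact (Finset.sum_congr rfl fun z _ => hEz z).trans hE.symm
  have hone : Φ₀ 1 = 1 := by
    rw [← hE1, hE]
    simp [Φ₀, Matrix.one_apply, ite_smul]
  refine ⟨AlgHom.ofLinearMap Φ₀ hone hΦmul, fun i a => ?_⟩
  show Φ₀ _ = _
  conv_rhs => rw [← mul_one (φ i a), ← hE1, hE, Finset.mul_sum, hφsum i a]
  simp only [Φ₀, LinearMap.coe_mk, AddHom.coe_mk, Finset.sum_mul, smul_mul_assoc, Ψ_left, smul_ite, smul_zero,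
    Finset.sum_ite_eq, Finset.mem_univ, if_true, ptens_single, ite_smul, zero_smul]
  rw [Finset.sum_comm]
  refine Finset.sum_congr rfl fun y _ => ?_
  rw [← Finset.sum_filter]
  refine Finset.sum_nbij' (fun x => x i) (fun p => Function.update y i p) ?_ ?_ ?_ ?_ ?_
  · intro x hx; simp
  · intro p hp; simp [Function.update_idem]
  · intro x hx
    simp at hx
    exact hx.symm
  · intro p hp; simp
  · intro x hx
    simp at hx
    rw [← hx]

/-- the coordinates of a basis given by the index bijection and a change of basis -/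
lemma mulVec_comp_symm {m n : Type} [Fintype m] [Fintype n] (e : m ≃ n) (T : Matrix n n F) (x : n → F) :
    (T.submatrix e e) *ᵥ (x ∘ e) = (T *ᵥ x) ∘ e := by
  rw [Matrix.submatrix_mulVec_equiv]
  simp [Function.comp_assoc]

variable [Fintype F] {Q : QuadraticForm F (ι → F)} {H : Subgroup (GL ι F)}

/-- **The tensor wreath class.** -/
theorem Slots.wreath_geo (hN : (QuadraticMap.polarBilin Q).Nondegenerate) {t k : ℕ} (S : Slots Q H t k)
    (ht : 2 ≤ t) (hk : 3 ≤ k) (hq : ¬ (Fintype.card F = 3 ∧ k = 3)) : InGeo Q H := by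
  classical
  let i0 : Fin t := ⟨0, by omega⟩
  haveI : Nonempty (Fin k) := ⟨⟨0, by omega⟩⟩
  haveI hne : Nonempty ι := by
    by_contra h
    rw [not_nonempty_iff] at h
    exact one_ne_zero (S.inj i0 (Subsingleton.elim (S.L i0 1) (S.L i0 0)))
  obtain ⟨Φ, hΦ⟩ := exists_tensor_hom_idem (ι := ι) (by omega) S.L S.comm fun M hM hMM => by
    rcases S.irr (LinearMap.range M.mulVecLin) (by
      rintro i X _ ⟨u, rfl⟩
      exact ⟨S.L i X *ᵥ u, by simp [Matrix.mulVec_mulVec, hM]⟩) with h | h
    · left
      refine Matrix.ext_of_mulVec_single fun j => ?_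
      have : M.mulVecLin (Pi.single j 1) ∈ LinearMap.range M.mulVecLin := ⟨_, rfl⟩
      rw [h, Submodule.mem_bot] at this
      rw [Matrix.zero_mulVec]
      exact this
    · right
      refine Matrix.ext_of_mulVec_single fun j => ?_
      obtain ⟨u, hu⟩ : (Pi.single j 1 : ι → F) ∈ LinearMap.range M.mulVecLin := h ▸ Submodule.mem_top
      simp only [Matrix.mulVecLin_apply] at hu
      rw [← hu, Matrix.mulVec_mulVec, hMM, Matrix.one_mulVec]
  -- a basis adapted to the factors
  let z : Fin t → Fin k := fun _ => ⟨0, by omega⟩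
  have hz0 : Φ (Matrix.single z z 1) ≠ 0 := by
    intro h
    have hi : Function.Injective Φ := RingHom.injective Φ.toRingHom
    exact one_ne_zero (show (1 : F) = 0 by
      have := congrFun (congrFun (hi (h.trans (map_zero Φ).symm)) z) z
      simpa using this)
  obtain ⟨v, hv⟩ : ∃ v, Φ (Matrix.single z z 1) *ᵥ v ≠ 0 := by
    by_contra hc
    push Not at hc
    exact hz0 (Matrix.ext_of_mulVec_single fun j => by rw [hc, Matrix.zero_mulVec])
  let b : (Fin t → Fin k) → (ι → F) := fun x => Φ (Matrix.single x z 1) *ᵥ v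
  have hΦb : ∀ T y, Φ T *ᵥ b y = ∑ x, T x y • b x := by
    intro T y
    have hT : T * Matrix.single y z 1 = ∑ x, T x y • Matrix.single x z 1 := by
      ext a c
      simp only [Matrix.sum_apply, Matrix.smul_apply, Matrix.single_apply]
      rcases eq_or_ne z c with rfl | hc <;>
        simp [Matrix.mul_apply, Matrix.single_apply, *]
    simp only [b, Matrix.mulVec_mulVec]
    rw [← map_mul, hT, map_sum, Matrix.sum_mulVec]
    refine Finset.sum_congr rfl fun x _ => ?_
    rw [map_smul, Matrix.smul_mulVec]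
  have hli : LinearIndependent F b := by
    rw [Fintype.linearIndependent_iff]
    intro g hg x
    have h1 := congrArg (Φ (Matrix.single z x 1) *ᵥ ·) hg
    simp only [Matrix.mulVec_sum, Matrix.mulVec_smul, hΦb, Matrix.mulVec_zero] at h1
    simp [Matrix.single_apply, ite_and, Finset.sum_ite_eq, Finset.sum_ite_eq'] at h1
    exact h1.resolve_right hv
  have hsp : Submodule.span F (Set.range b) = ⊤ := by
    refine (S.irr _ fun i X w hw => ?_).resolve_left fun h => hv ?_
    · induction hw using Submodule.span_induction with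
      | mem w hw =>
        obtain ⟨y, rfl⟩ := hw
        rw [← hΦ i X, hΦb]
        exact Submodule.sum_mem _ fun x _ => Submodule.smul_mem _ _ (Submodule.subset_span ⟨x, rfl⟩)
      | zero => simp
      | add a c _ _ ha hc => rw [Matrix.mulVec_add]; exact add_mem ha hc
      | smul c a _ ha => rw [Matrix.mulVec_smul]; exact Submodule.smul_mem _ c ha
    · have : b z ∈ Submodule.span F (Set.range b) := Submodule.subset_span ⟨z, rfl⟩
      rwa [h, Submodule.mem_bot] at this
  let B := Module.Basis.mk hli hsp.ge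
  let e : ι ≃ (Fin t → Fin k) := (Pi.basisFun F ι).indexEquiv B
  let P0 : Matrix ι ι F := Matrix.of fun i j => b (e j) i
  have hP0 : IsUnit P0 := by
    rw [← Matrix.linearIndependent_cols_iff_isUnit]
    exact hli.comp e e.injective
  set P : GL ι F := hP0.unit with hPdef
  have hPv : (P : Mn) = P0 := hP0.unit_spec
  have hkey : ∀ T, Φ T * (P : Mn) = (P : Mn) * T.submatrix e e := by
    intro T
    rw [hPv]
    ext i j
    have := congrFun (hΦb T (e j)) i
    simp only [Matrix.mulVec, dotProduct, Finset.sum_apply, Pi.smul_apply, smul_eq_mul] at this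
    simp only [Matrix.mul_apply, P0, Matrix.of_apply, Matrix.submatrix_apply]
    rw [this, ← e.sum_comp]
    exact Finset.sum_congr rfl fun l _ => mul_comm _ _
  -- the form
  let G : (Matrix (Fin t → Fin k) (Fin t → Fin k) F) := Matrix.of fun x y => QuadraticMap.polar (⇑Q) (b x) (b y)
  have hexp : ∀ x : (Fin t → Fin k) → F, (P : Mn) *ᵥ (x ∘ e) = ∑ a, x a • b a := by
    intro x
    rw [hPv]
    funext i
    simp only [Matrix.mulVec, dotProduct, P0, Matrix.of_apply, Function.comp_apply, Finset.sum_apply,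
      Pi.smul_apply, smul_eq_mul]
    rw [← e.sum_comp]
    exact Finset.sum_congr rfl fun l _ => mul_comm _ _
  have hpol : ∀ x y : (Fin t → Fin k) → F,
      QuadraticMap.polar (⇑Q) ((P : Mn) *ᵥ (x ∘ e)) ((P : Mn) *ᵥ (y ∘ e)) = ∑ a, ∑ c, x a * G a c * y c := by
    intro x y
    rw [hexp, hexp]
    show QuadraticMap.polarBilin Q _ _ = _
    simp only [map_sum, map_smul, LinearMap.sum_apply, LinearMap.smul_apply, smul_eq_mul, Finset.mul_sum]
    rw [Finset.sum_comm]
    refine Finset.sum_congr rfl fun a _ => Finset.sum_congr rfl fun c _ => ?_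
    simp [G, QuadraticMap.polarBilin_apply_apply]
    ring
  let gU : GL (Fin k) F := Matrix.GeneralLinearGroup.mkOfDetNeZero S.g S.g_det
  let Γ : GL (Fin t → Fin k) F := ptensU fun _ => gU
  have hgv : (gU : Matrix (Fin k) (Fin k) F) = S.g := rfl
  have hgi : ((gU⁻¹ : GL (Fin k) F) : Matrix (Fin k) (Fin k) F) = S.g⁻¹ := by
    rw [Matrix.coe_units_inv, hgv]
  have hΓ : ∀ i X, (Γ : (Matrix (Fin t → Fin k) (Fin t → Fin k) F)) * ptens (Pi.mulSingle i (S.g⁻¹ * Xᵀ * S.g)) = ptens (Pi.mulSingle i Xᵀ) * (Γ : (Matrix (Fin t → Fin k) (Fin t → Fin k) F)) := by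
    intro i X
    show ptens _ * _ = _ * ptens _
    rw [ptens_mul, ptens_mul]
    refine congrArg ptens (funext fun j => ?_)
    rcases eq_or_ne j i with rfl | hj
    · simp only [Pi.mul_apply, Pi.mulSingle_eq_same, hgv]
      rw [← mul_assoc, ← mul_assoc, Matrix.mul_nonsing_inv _ (Ne.isUnit S.g_det), one_mul]
    · simp [Pi.mulSingle_eq_of_ne hj]
  have hG : ∀ i X, ptens (Pi.mulSingle i Xᵀ) * G = G * ptens (Pi.mulSingle i (S.g⁻¹ * Xᵀ * S.g)) := by
    intro i X
    rw [show ptens (Pi.mulSingle i Xᵀ) = (ptens (Pi.mulSingle i X))ᵀ by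
      rw [ptens_transpose]; exact congrArg ptens (funext fun j => by
        rcases eq_or_ne j i with rfl | hj <;> simp [*])]
    ext a c
    have := S.adj i X (b a) (b c)
    rw [← hΦ, ← hΦ, hΦb, hΦb] at this
    change QuadraticMap.polarBilin Q _ _ = QuadraticMap.polarBilin Q _ _ at this
    simp only [map_sum, map_smul, LinearMap.sum_apply, LinearMap.smul_apply, smul_eq_mul] at this
    simp only [Matrix.mul_apply, Matrix.transpose_apply, G, Matrix.of_apply]
    simp only [QuadraticMap.polarBilin_apply_apply] at this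
    rw [this]
    exact Finset.sum_congr rfl fun l _ => mul_comm _ _
  obtain ⟨c, hc⟩ := tens_scalar (M := G * ((Γ⁻¹ : GL (Fin t → Fin k) F) : (Matrix (Fin t → Fin k) (Fin t → Fin k) F))) fun i X => by
    obtain ⟨Y, rfl⟩ : ∃ Y, X = Yᵀ := ⟨Xᵀ, (Matrix.transpose_transpose X).symm⟩
    rw [← Units.mul_left_inj Γ, mul_assoc, mul_assoc, mul_assoc, ← hΓ, ← mul_assoc _ (Γ : (Matrix (Fin t → Fin k) (Fin t → Fin k) F)),
      Units.inv_mul, one_mul, ← hG, mul_assoc, Units.inv_mul, mul_one]
  have hGc : G = c • (Γ : (Matrix (Fin t → Fin k) (Fin t → Fin k) F)) := by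
    have := congrArg (· * (Γ : (Matrix (Fin t → Fin k) (Fin t → Fin k) F))) hc
    simpa [mul_assoc] using this
  have hc0 : c ≠ 0 := by
    intro h0
    have hb0 : b z ≠ 0 := hv
    refine hb0 (hN.1 (b z) fun y => ?_)
    obtain ⟨w, rfl⟩ : ∃ w : (Fin t → Fin k) → F, (P : Mn) *ᵥ (w ∘ e) = y :=
      ⟨(((P⁻¹ : GL ι F) : Mn) *ᵥ y) ∘ e.symm, by simp [Function.comp_assoc, Matrix.mulVec_mulVec]⟩
    have h1 := hpol (Pi.single z 1) w
    rw [hexp, hexp] at h1
    simp only [Pi.single_apply, ite_smul, one_smul, zero_smul, Finset.sum_ite_eq', Finset.mem_univ, if_true] at h1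
    rw [← hexp] at h1
    rw [QuadraticMap.polarBilin_apply_apply, h1, hGc, h0]
    simp
  let f₁ : (Fin k → F) → (Fin k → F) → F := fun u w => u ⬝ᵥ (S.g *ᵥ w)
  have hf₁ : IsSymmetricForm f₁ := by
    have hs : ∀ u w, f₁ u w = f₁ w u := fun u w => by
      show u ⬝ᵥ (S.g *ᵥ w) = w ⬝ᵥ (S.g *ᵥ u)
      rw [Matrix.dotProduct_mulVec, ← Matrix.mulVec_transpose, S.g_symm, dotProduct_comm]
    refine ⟨⟨fun x y w => add_dotProduct _ _ _, fun a x w => smul_dotProduct _ _ _,
      fun w x y => by simp [f₁, Matrix.mulVec_add, dotProduct_add],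
      fun a w x => by simp [f₁, Matrix.mulVec_smul, dotProduct_smul]⟩, hs, fun w hw => ?_⟩
    have : ∃ x, f₁ x w ≠ 0 := by
      by_contra hc
      push Not at hc
      refine hw (Matrix.eq_zero_of_mulVec_eq_zero S.g_det ?_)
      funext j
      simpa [f₁] using hc (Pi.single j 1)
    exact ⟨this, this.imp fun x hx => hs x w ▸ hx⟩
  refine Or.inr (Or.inr (Or.inr (Or.inr (Or.inr (Or.inr (Or.inr ⟨k, t, e, P, f₁, hk, ht, hq, hf₁, ?_, ?_⟩))))))
  · refine ⟨c, hc0, fun x y => ?_⟩
    rw [hpol, hGc, Finset.mul_sum]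
    refine Finset.sum_congr rfl fun a _ => ?_
    rw [Finset.mul_sum]
    refine Finset.sum_congr rfl fun a' _ => ?_
    simp [Γ, ptensU, ptens, gramMatrix, f₁, hgv]
    ring
  -- the group
  intro h hh
  obtain ⟨σ, hσ⟩ := S.perm h hh
  let K : GL (Fin t → Fin k) F →* GL ι F :=
    (MulAut.conj P).toMonoidHom.comp (glReindex e.symm).toMonoidHom
  have hK : ∀ T : GL (Fin t → Fin k) F, (K T : Mn) = Φ (T : (Matrix (Fin t → Fin k) (Fin t → Fin k) F)) := by
    intro T
    rw [show Φ (T : (Matrix (Fin t → Fin k) (Fin t → Fin k) F)) = (P : Mn) * (T : (Matrix (Fin t → Fin k) (Fin t → Fin k) F)).submatrix e e * ((P⁻¹ : GL ι F) : Mn) by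
      rw [← hkey, Units.mul_inv_cancel_right]]
    simp [K, glReindex, Matrix.reindex_apply]
  have hbj : ∀ i, ∃ bb : GL (Fin k) F, ∀ a, (h : Mn) * S.L i a * ((h⁻¹ : GL ι F) : Mn) =
      S.L (σ i) ((bb : Matrix (Fin k) (Fin k) F) * a * ((bb⁻¹ : GL (Fin k) F) : Matrix (Fin k) (Fin k) F)) := by
    intro i
    choose Y hY using hσ i
    let ψ : Matrix (Fin k) (Fin k) F →ₐ[F] Matrix (Fin k) (Fin k) F :=
      AlgHom.ofLinearMap
        { toFun := Y
          map_add' := fun x y => S.inj (σ i) (by
            rw [map_add, ← hY, ← hY, ← hY, map_add, mul_add, add_mul])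
          map_smul' := fun r x => S.inj (σ i) (by
            rw [RingHom.id_apply, map_smul, ← hY, ← hY, map_smul, mul_smul_comm, smul_mul_assoc]) }
        (S.inj (σ i) (show S.L (σ i) (Y 1) = S.L (σ i) 1 by rw [← hY, map_one, map_one, mul_one, Units.mul_inv]))
        (fun x y => S.inj (σ i) (show S.L (σ i) (Y (x * y)) = S.L (σ i) (Y x * Y y) by
          rw [map_mul, ← hY, ← hY, ← hY, map_mul]; simp [mul_assoc]))
    obtain ⟨bb, hbb⟩ := SLTwoPrime.exists_inner (by omega) ψ
    exact ⟨bb, fun a => by rw [hY]; exact congrArg (S.L (σ i)) (hbb a)⟩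
  choose bb hbb using hbj
  let W : GL (Fin t → Fin k) F := ptensU (fun j => bb (σ.symm j)) * pmatU σ
  have hW : ∀ i a, (W : (Matrix (Fin t → Fin k) (Fin t → Fin k) F)) * ptens (Pi.mulSingle i a) * ((W⁻¹ : GL (Fin t → Fin k) F) : (Matrix (Fin t → Fin k) (Fin t → Fin k) F)) =
      ptens (Pi.mulSingle (σ i) ((bb i : Matrix (Fin k) (Fin k) F) * a * ((bb i)⁻¹ : GL (Fin k) F).val)) := by
    intro i a
    show _ * ptens _ * ((ptensU _ * pmatU σ)⁻¹ : GL _ F).val = _
    rw [_root_.mul_inv_rev, Units.val_mul, Units.val_mul]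
    show ptens _ * pmat σ * ptens _ * (pmat σ.symm * ptens _) = _
    rw [show ∀ A S T S' B : (Matrix (Fin t → Fin k) (Fin t → Fin k) F), A * S * T * (S' * B) = A * (S * T * S') * B from fun A S T S' B => by
      simp only [mul_assoc], pmat_conj, ptens_mul, ptens_mul]
    refine congrArg ptens (funext fun j => ?_)
    rcases eq_or_ne j (σ i) with rfl | hj
    · simp
    · simp [Pi.mulSingle_eq_of_ne hj]
  let R : GL (Fin t → Fin k) F := glReindex e (P⁻¹ * ((K W)⁻¹ * h) * P)
  have hKR : K R = (K W)⁻¹ * h := by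
    have : ∀ u : GL ι F, glReindex e.symm (glReindex e u) = u := fun u => by
      ext; simp [glReindex]
    simp only [K, R, MonoidHom.comp_apply, MulEquiv.coe_toMonoidHom, this, MulAut.conj_apply]
    group
  have hcomm : ∀ i a, (R : (Matrix (Fin t → Fin k) (Fin t → Fin k) F)) * ptens (Pi.mulSingle i a) = ptens (Pi.mulSingle i a) * (R : (Matrix (Fin t → Fin k) (Fin t → Fin k) F)) := by
    intro i a
    have hi : Function.Injective Φ := RingHom.injective Φ.toRingHom
    apply hi
    rw [map_mul, map_mul, ← hK, hKR, hΦ]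
    have h1 : (h : Mn) * S.L i a * ((h⁻¹ : GL ι F) : Mn) = (K W : Mn) * S.L i a * (((K W)⁻¹ : GL ι F) : Mn) := by
      rw [hbb, ← hΦ, ← hΦ, hK W, ← map_inv, hK, ← map_mul, ← map_mul, hW]
    have h2 := congrArg (fun M => (((K W)⁻¹ : GL ι F) : Mn) * M * (h : Mn)) h1
    simp only [Units.val_mul, mul_assoc, Units.inv_mul, mul_one] at h2 ⊢
    rw [← mul_assoc (((K W)⁻¹ : GL ι F) : Mn) (K W : Mn), Units.inv_mul, one_mul] at h2
    exact h2
  haveI : Nonempty (Fin t → Fin k) := ⟨z⟩
  obtain ⟨c', hc'⟩ := tens_scalar hcomm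
  obtain ⟨u, hu⟩ := (mem_scalars_iff _).1 (SLTwoPrime.mem_scalars_of_val hc')
  let zz : GL (Fin k) F := Units.map (algebraMap F (Matrix (Fin k) (Fin k) F)).toMonoidHom u
  let Z : GL (Fin t → Fin k) F := ptensU (Pi.mulSingle i0 zz)
  have hZ : R = Z := by
    refine Units.ext ?_
    rw [hu]
    show _ = ptens fun j => ((Pi.mulSingle i0 zz : Fin t → GL (Fin k) F) j : Matrix (Fin k) (Fin k) F)
    rw [show (fun j => ((Pi.mulSingle i0 zz : Fin t → GL (Fin k) F) j : Matrix (Fin k) (Fin k) F)) =
      Pi.mulSingle i0 (zz : Matrix (Fin k) (Fin k) F) from funext fun j => by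
        rcases eq_or_ne j i0 with rfl | hj <;> simp [*]]
    ext x y
    rw [ptens_single]
    by_cases hxy : x = y
    · subst hxy; simp [zz, Matrix.algebraMap_matrix_apply]
    · by_cases hu' : x = Function.update y i0 (x i0)
      · have hi : x i0 ≠ y i0 := fun h' => hxy (by rw [hu', h', Function.update_eq_self])
        simp [zz, hxy, hi, ← hu', Matrix.algebraMap_matrix_apply]
      · simp [hxy, hu']
  have hh' : h = K (W * Z) := by rw [map_mul, ← hZ, hKR, mul_inv_cancel_left]
  rw [hh']
  refine ⟨_, ⟨W * Z, mul_mem (mul_mem ?_ ?_) ?_, rfl⟩, rfl⟩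
  · exact Subgroup.subset_closure (Or.inl ⟨_, fun x y => rfl⟩)
  · exact Subgroup.subset_closure (Or.inr ⟨σ, fun x y => rfl⟩)
  · exact Subgroup.subset_closure (Or.inl ⟨_, fun x y => rfl⟩)

end Cfsg.Agent.Lib.OrthOddAny
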