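import Cfsg.Agent.Lib.OrthOddAny.Std
import Cfsg.Agent.Lib.OrthOddAny.Core
import Cfsg.Agent.Lib.OrthOddAny.Pair
import Cfsg.Agent.Lib.OrthOddAny.Small
import Cfsg.Agent.Lib.OrthOddAny.Reducible
import Cfsg.Agent.Lib.OrthOddAny.Slot
import Cfsg.Agent.Lib.OrthOddAny.Wreath

/-!
The subgroup structure of the odd-dimensional orthogonal groups: all the steps.
-/

set_option autoImplicit false

namespace Cfsg.Agent.Lib.OrthOddAny

open scoped MatrixGroups Matrix

/-- The subgroup structure for the standard form. -/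
theorem structure_std {F : Type*} [Field F] [Fintype F] (hodd : Odd (Fintype.card F)) (m : ℕ) (hm : 3 ≤ m)
    (H : Subgroup (GL (Unit ⊕ (Fin m ⊕ Fin m)) F))
    (hH : H ≤ Cfsg.Geo.omegaGL (Cfsg.quadFormOdd m F)) :
    (∃ M : Subgroup (GL (Unit ⊕ (Fin m ⊕ Fin m)) F), Cfsg.Geo.InOrthogonalOddClass m F M ∧ H ≤ M) ∨
      Cfsg.Geo.InOrthogonalResidualClass H :=
  structure_of_steps hodd m hm H hH fun Q hN h2 hiso => by
    have hcard : Fintype.card (Unit ⊕ (Fin m ⊕ Fin m)) = 2 * m + 1 := by simp; omega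
    have hodd' : Odd (Fintype.card (Unit ⊕ (Fin m ⊕ Fin m))) := hcard.symm ▸ odd_two_mul_add_one m
    exact
      { reducible := fun h => reducible_geo hN h2 hiso h
        pair := fun hirr _ hNH hnor hperf hN0 hs hc hnabs =>
          pair_geo hN h2 hodd' hiso hirr hNH hnor hperf hN0 hs hc hnabs
        core := fun hNH hnor hmin hs habs hnab hsub => core_or_family hiso hNH hnor hmin hs habs hnab hsub
        slot := fun hG hKG hc hKiso hns => exists_slot hN h2 hodd' hG hKG hc hKiso hns
        three := fun hq g hg hd K hperf hiso' => perfect_three hq hg hd hperf hiso'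
        wreath := fun S ht hk hq => S.wreath_geo hN ht hk hq }

end Cfsg.Agent.Lib.OrthOddAny
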