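import Cfsg.Prelude.Def_GeometricClasses
import Mathlib.LinearAlgebra.QuadraticForm.Basic

/-!
# Subgroup structure of orthogonal groups in odd dimension: shared definitions
-/

set_option autoImplicit false

namespace Cfsg.Agent.Lib.OrthOddAny

open Cfsg Cfsg.Geo
open scoped Matrix

variable {ι : Type} [Fintype ι] [DecidableEq ι] {F : Type*} [Field F] [Fintype F]

/-- The subgroup `H` lies in a member of one of the geometric classes for the form `Q`. -/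
def InGeo (Q : QuadraticForm F (ι → F)) (H : Subgroup (GL ι F)) : Prop :=
  (∃ W : Submodule F (ι → F), W ≠ ⊥ ∧ IsTotallySingularQuad (⇑Q) W ∧ H ≤ subspaceStabilizer W) ∨
  (∃ W : Submodule F (ι → F), W ≠ ⊥ ∧ W ≠ ⊤ ∧ IsNondegenerateOn (QuadraticMap.polar ⇑Q) W ∧
    H ≤ subspaceStabilizer W) ∨
  (∃ (t k : ℕ) (D : Fin t → Submodule F (ι → F)), 1 < k ∧ IsOrthogonalMDecomposition (⇑Q) k D ∧
    H ≤ decompositionStabilizer D) ∨
  (∃ (t : ℕ) (D : Fin t → Submodule F (ι → F)), (Fintype.card F).Prime ∧ IsOrthogonalMDecomposition (⇑Q) 1 D ∧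
    H ≤ decompositionStabilizer D) ∨
  (∃ (r : ℕ) (K : Subalgebra F (Matrix ι ι F)), r.Prime ∧ Fintype.card ι ≠ r ∧ IsFieldSubalgebra r K ∧
    IsSelfAdjointFor (QuadraticMap.polar ⇑Q) K ∧ H ≤ subalgebraNormalizer K) ∨
  (∃ (n₁ n₂ : ℕ) (e : ι ≃ Fin n₁ × Fin n₂) (P : GL ι F)
      (f₁ : (Fin n₁ → F) → (Fin n₁ → F) → F) (f₂ : (Fin n₂ → F) → (Fin n₂ → F) → F),
      3 ≤ n₁ ∧ n₁ < n₂ ∧ IsSymmetricForm f₁ ∧ IsSymmetricForm f₂ ∧
      IsTensorFormStructure id (QuadraticMap.polar ⇑Q) f₁ f₂ e P ∧ H ≤ tensorProductSubgroup n₁ n₂ e P) ∨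
  (∃ (F₀ : Subfield F) (r : ℕ) (P : GL ι F), r.Prime ∧ Fintype.card F = Nat.card F₀ ^ r ∧
      IsQuadFormRationalStructure (⇑Q) F₀ P ∧ H ≤ subfieldSubgroup F₀ P) ∨
  (∃ (k t : ℕ) (e : ι ≃ (Fin t → Fin k)) (P : GL ι F) (f₁ : (Fin k → F) → (Fin k → F) → F),
      3 ≤ k ∧ 2 ≤ t ∧ ¬ (Fintype.card F = 3 ∧ k = 3) ∧ IsSymmetricForm f₁ ∧
      IsTensorPowerFormStructure id (QuadraticMap.polar ⇑Q) f₁ e P ∧ H ≤ tensorWreathSubgroup k t e P)

/-- A family of at least two commuting perfect subgroups of `H`, one orbit under `H`, generating an absolutely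
irreducible group. -/
structure Family (H : Subgroup (GL ι F)) (t : ℕ) (D : Fin t → Subgroup (GL ι F)) : Prop where
  two_le : 2 ≤ t
  le : ∀ i, D i ≤ H
  perfect : ∀ i, ⁅D i, D i⁆ = D i
  nonscalar : ∀ i, ¬ D i ≤ scalars ι F
  comm : ∀ i j, i ≠ j → ∀ x ∈ D i, ∀ y ∈ D j, x * y = y * x
  inj : Function.Injective D
  perm : ∀ h ∈ H, ∃ σ : Equiv.Perm (Fin t), ∀ i, (D i).map (MulAut.conj h).toMonoidHom = D (σ i)
  trans : ∀ i j, ∃ h ∈ H, (D i).map (MulAut.conj h).toMonoidHom = D j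
  absIrred : ActsAbsolutelyIrreducibly (matrixSet (⨆ i, D i))

/-- The double centraliser of a group inside the matrix algebra. -/
def dcent (K : Subgroup (GL ι F)) : Subalgebra F (Matrix ι ι F) :=
  Subalgebra.centralizer F (Subalgebra.centralizer F (matrixSet K) : Set (Matrix ι ι F))

/-- `t` commuting copies of the algebra of `k`-square matrices, permuted by `H`, with adjoints given by one
symmetric matrix, together acting irreducibly. -/
structure Slots (Q : QuadraticForm F (ι → F)) (H : Subgroup (GL ι F)) (t k : ℕ) where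
  L : Fin t → (Matrix (Fin k) (Fin k) F →ₐ[F] Matrix ι ι F)
  inj : ∀ i, Function.Injective (L i)
  comm : ∀ i j, i ≠ j → ∀ X Y, L i X * L j Y = L j Y * L i X
  perm : ∀ h ∈ H, ∃ σ : Equiv.Perm (Fin t), ∀ i X, ∃ Y,
    (h : Matrix ι ι F) * L i X * ((h⁻¹ : GL ι F) : Matrix ι ι F) = L (σ i) Y
  g : Matrix (Fin k) (Fin k) F
  g_symm : gᵀ = g
  g_det : g.det ≠ 0
  adj : ∀ i X u v, QuadraticMap.polar (⇑Q) (L i X *ᵥ u) v = QuadraticMap.polar (⇑Q) u (L i (g⁻¹ * Xᵀ * g) *ᵥ v)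
  irr : ∀ W : Submodule F (ι → F), (∀ i X, ∀ v ∈ W, L i X *ᵥ v ∈ W) → W = ⊥ ∨ W = ⊤

end Cfsg.Agent.Lib.OrthOddAny
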