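import Cfsg.Agent.Lib.OrthOddAny.Defs
import Cfsg.Agent.Lib.TwoPrimeDim.Centre
import Cfsg.Agent.Lib.OrthNine.Adjoint

/-!
A family of commuting perfect factors of an orthogonal group gives commuting slots.
-/

set_option autoImplicit false
set_option linter.unusedSectionVars false

namespace Cfsg.Agent.Lib.OrthOddAny

open Matrix Module QuadraticMap Cfsg.Agent.Lib.MaxSub Cfsg.Agent.Lib.TwoPrimeDim
open scoped MatrixGroups Matrix

attribute [-simp] QuadraticMap.polarBilin_apply_apply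

variable {ι : Type} [Fintype ι] [DecidableEq ι] {F : Type*} [Field F] [Fintype F]
  {Q : QuadraticForm F (ι → F)}

local notation "MM" => Matrix ι ι F

theorem mem_dcent {K : Subgroup (GL ι F)} {X : MM} :
    X ∈ dcent K ↔ ∀ Y : MM, (∀ x ∈ K, (x : MM) * Y = Y * (x : MM)) → Y * X = X * Y := by
  rw [dcent, Subalgebra.mem_centralizer_iff]
  exact ⟨fun h Y hY => h Y (mem_commutant.mpr hY), fun h Y hY => h Y (mem_commutant.mp hY)⟩

theorem coe_mem_dcent {K : Subgroup (GL ι F)} {x : GL ι F} (hx : x ∈ K) : (x : MM) ∈ dcent K :=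
  mem_dcent.mpr fun _ hY => (hY x hx).symm

theorem conj_mem_dcent {K : Subgroup (GL ι F)} {h : GL ι F} {X : MM} (hX : X ∈ dcent K) :
    (h : MM) * X * ((h⁻¹ : GL ι F) : MM) ∈ dcent (K.map (MulAut.conj h).toMonoidHom) := by
  refine mem_dcent.mpr fun Y hY => ?_
  have hY' : ∀ x ∈ K, (x : MM) * (((h⁻¹ : GL ι F) : MM) * Y * (h : MM)) =
      (((h⁻¹ : GL ι F) : MM) * Y * (h : MM)) * (x : MM) := by
    intro x hx
    have h1 := hY (h * x * h⁻¹) ⟨x, hx, rfl⟩
    have h3 := congrArg (fun Z => ((h⁻¹ : GL ι F) : MM) * Z * (h : MM)) h1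
    simpa [mul_assoc] using h3
  have h1 := mem_dcent.mp hX _ hY'
  have h3 := congrArg (fun Z => (h : MM) * Z * ((h⁻¹ : GL ι F) : MM)) h1
  simpa [mul_assoc] using h3

/-- Double centralisers of commuting groups commute. -/
theorem dcent_comm {K K' : Subgroup (GL ι F)} (h : ∀ x ∈ K, ∀ y ∈ K', x * y = y * x) {X Y : MM}
    (hX : X ∈ dcent K) (hY : Y ∈ dcent K') : X * Y = Y * X := by
  refine mem_dcent.mp hY X fun y hy => ?_
  refine mem_dcent.mp hX (y : MM) fun x hx => ?_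
  rw [← Units.val_mul, ← Units.val_mul, h x hx y hy]

/-- The slot attached to a normal subgroup with scalar centre. -/
def SlotStep (Q : QuadraticForm F (ι → F)) : Prop :=
  ∀ {G K : Subgroup (GL ι F)}, Cfsg.Geo.ActsIrreducibly (Cfsg.Geo.matrixSet G) →
    (∀ g ∈ G, ∀ x ∈ K, g * x * g⁻¹ ∈ K) → (∀ M ∈ centre K, ∃ c : F, M = c • (1 : MM)) →
    K ≤ Cfsg.isometryGroup F ⇑Q → ¬ K ≤ Cfsg.Geo.scalars ι F →
    ∃ (k : ℕ) (L : Matrix (Fin k) (Fin k) F →ₐ[F] MM) (g : Matrix (Fin k) (Fin k) F),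
      Odd k ∧ 3 ≤ k ∧ k ∣ Fintype.card ι ∧ Function.Injective L ∧ L.range = dcent K ∧
      (∀ x ∈ K, ∃ X, L X = (x : MM) ∧ Xᵀ * g * X = g) ∧ gᵀ = g ∧ g.det ≠ 0 ∧
      ∀ X u v, QuadraticMap.polar (⇑Q) (L X *ᵥ u) v = QuadraticMap.polar (⇑Q) u (L (g⁻¹ * Xᵀ * g) *ᵥ v)

/-- No perfect group preserves a form in dimension three over three elements. -/
def ThreeStep (F : Type*) [Field F] [Fintype F] : Prop :=
  Fintype.card F = 3 → ∀ g : Matrix (Fin 3) (Fin 3) F, gᵀ = g → g.det ≠ 0 →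
    ∀ K : Subgroup (GL (Fin 3) F), ⁅K, K⁆ = K →
      (∀ x ∈ K, (x : Matrix (Fin 3) (Fin 3) F)ᵀ * g * (x : Matrix (Fin 3) (Fin 3) F) = g) → K = ⊥

/-- Three dimensional slots over three elements carry no perfect group. -/
theorem no_three (hq : Fintype.card F = 3) (hthree : ThreeStep F) {K : Subgroup (GL ι F)} (hperf : ⁅K, K⁆ = K)
    (L : Matrix (Fin 3) (Fin 3) F →ₐ[F] MM) (hinj : Function.Injective L) (g : Matrix (Fin 3) (Fin 3) F)
    (hg : gᵀ = g) (hg0 : g.det ≠ 0) (hmem : ∀ x ∈ K, ∃ X, L X = (x : MM) ∧ Xᵀ * g * X = g) : K = ⊥ := by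
  let η : GL (Fin 3) F →* GL ι F := Units.map (L : Matrix (Fin 3) (Fin 3) F →* MM)
  have hη : ∀ y : GL (Fin 3) F, (η y : MM) = L (y : Matrix (Fin 3) (Fin 3) F) := fun y => rfl
  have hηinj : Function.Injective η := fun a b h => Units.ext (hinj (by rw [← hη, ← hη, h]))
  have hlift : ∀ x ∈ K, ∃ y : GL (Fin 3) F, η y = x ∧
      (y : Matrix (Fin 3) (Fin 3) F)ᵀ * g * (y : Matrix (Fin 3) (Fin 3) F) = g := by
    intro x hx
    obtain ⟨X, hX, hXg⟩ := hmem x hx
    have hdet : X.det ≠ 0 := fun h0 => hg0 (by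
      rw [← hXg, Matrix.det_mul, h0, mul_zero])
    exact ⟨Matrix.GeneralLinearGroup.mkOfDetNeZero X hdet, Units.ext hX, hXg⟩
  have hmap : (K.comap η).map η = K := by
    refine le_antisymm (Subgroup.map_comap_le _ _) fun x hx => ?_
    obtain ⟨y, hy, -⟩ := hlift x hx
    exact ⟨y, show η y ∈ K by rw [hy]; exact hx, hy⟩
  have hperf' : ⁅K.comap η, K.comap η⁆ = K.comap η := by
    refine Subgroup.map_injective hηinj ?_
    rw [Subgroup.map_commutator, hmap, hperf]
  have hbot := hthree hq g hg hg0 _ hperf' fun y hy => by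
    obtain ⟨z, hz, hzg⟩ := hlift (η y) hy
    rwa [← hηinj hz]
  rw [← hmap, hbot, Subgroup.map_bot]

/-- A family gives slots, with the small exception excluded. -/
theorem family_slots (hslot : SlotStep Q) (hthree : ThreeStep F) {H : Subgroup (GL ι F)}
    (hiso : H ≤ Cfsg.isometryGroup F ⇑Q) {t : ℕ} {D : Fin t → Subgroup (GL ι F)} (hD : Family H t D) :
    ∃ k, Nonempty (Slots Q H t k) ∧ 3 ≤ k ∧ ¬ (Fintype.card F = 3 ∧ k = 3) := by
  classical
  have h0t : 0 < t := by have := hD.two_le; omega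
  let i₀ : Fin t := ⟨0, h0t⟩
  set G := ⨆ i, D i with hG
  have hDG : ∀ i, D i ≤ G := le_iSup D
  have hGD : ∀ g ∈ G, ∀ x ∈ D i₀, g * x * g⁻¹ ∈ D i₀ := by
    intro g hg
    induction hg using Subgroup.iSup_induction' with
    | hp i g hg =>
      intro x hx
      by_cases hi : i = i₀
      · subst hi
        exact (D _).mul_mem ((D _).mul_mem hg hx) ((D _).inv_mem hg)
      · rw [hD.comm i i₀ hi g hg x hx, mul_inv_cancel_right]
        exact hx
    | h1 => intro x hx; simpa using hx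
    | hmul a b _ _ iha ihb =>
      intro x hx
      rw [show a * b * x * (a * b)⁻¹ = a * (b * x * b⁻¹) * a⁻¹ by group]
      exact iha _ (ihb x hx)
  have hcentre : ∀ M ∈ centre (D i₀), ∃ c : F, M = c • (1 : MM) := by
    intro M hM
    rw [mem_centre] at hM
    refine hD.absIrred.2 M ?_
    rintro _ ⟨x, hx, rfl⟩
    induction hx using Subgroup.iSup_induction' with
    | hp i g hg =>
      by_cases hi : i = i₀
      · subst hi
        exact (hM.1 g hg).symm
      · refine (hM.2 (g : MM) fun y hy => ?_).symm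
        rw [← Units.val_mul, ← Units.val_mul, hD.comm i i₀ hi g hg y hy]
    | h1 => simp
    | hmul a b _ _ ha hb =>
      simp only at ha hb ⊢
      rw [Units.val_mul, ← mul_assoc, ha, mul_assoc, hb, mul_assoc]
  obtain ⟨k, L, g, -, hk3, -, hinj, hrange, hmem, hgs, hg0, hadj⟩ :=
    hslot hD.absIrred.1 hGD hcentre ((hD.le i₀).trans hiso) (hD.nonscalar i₀)
  choose h hh hconj using hD.trans i₀
  let Li : Fin t → (Matrix (Fin k) (Fin k) F →ₐ[F] MM) := fun i =>
    { toFun := fun X => (h i : MM) * L X * (((h i)⁻¹ : GL ι F) : MM)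
      map_one' := by simp
      map_mul' := fun X Y => by simp [mul_assoc]
      map_zero' := by simp
      map_add' := fun X Y => by simp [mul_add, add_mul]
      commutes' := fun c => by
        rw [AlgHom.commutes, ← Algebra.commutes, mul_assoc, Units.mul_inv, mul_one] }
  have hLi : ∀ i X, Li i X = (h i : MM) * L X * (((h i)⁻¹ : GL ι F) : MM) := fun i X => rfl
  have hLmem : ∀ i X, Li i X ∈ dcent (D i) := fun i X => by
    rw [hLi, ← hconj i]
    exact conj_mem_dcent (hrange ▸ ⟨X, rfl⟩)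
  have hLsurj : ∀ i, ∀ Z ∈ dcent (D i), ∃ X, Li i X = Z := by
    intro i Z hZ
    have hmap : (D i).map (MulAut.conj (h i)⁻¹).toMonoidHom = D i₀ := by
      rw [← hconj i, Subgroup.map_map]
      convert Subgroup.map_id (D i₀) using 2
      ext x
      simp [mul_assoc]
    have h1 := conj_mem_dcent (h := (h i)⁻¹) hZ
    rw [hmap, ← hrange, inv_inv] at h1
    obtain ⟨X, hX⟩ := h1
    refine ⟨X, ?_⟩
    rw [hLi, show L X = L.toRingHom X from rfl, hX]
    simp [mul_assoc]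
  refine ⟨k, ⟨⟨Li, fun i a b hab => hinj ?_, fun i j hij X Y => ?_, fun u hu => ?_, g, hgs, hg0, fun i X u v => ?_,
    fun W hW => ?_⟩⟩, hk3, ?_⟩
  · have h1 := congrArg (fun Z => (((h i)⁻¹ : GL ι F) : MM) * Z * (h i : MM)) hab
    simpa [hLi, mul_assoc] using h1
  · exact dcent_comm (hD.comm i j hij) (hLmem i X) (hLmem j Y)
  · obtain ⟨σ, hσ⟩ := hD.perm u hu
    refine ⟨σ, fun i X => ?_⟩
    have h1 := conj_mem_dcent (h := u) (hLmem i X)
    rw [hσ i] at h1
    obtain ⟨Y, hY⟩ := hLsurj _ _ h1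
    exact ⟨Y, hY.symm⟩
  · have h1 := OrthNine.Adjoint.adj_iso (hiso (hh i))
    rw [hLi, hLi, ← Matrix.mulVec_mulVec, ← Matrix.mulVec_mulVec, ← Matrix.mulVec_mulVec, ← Matrix.mulVec_mulVec]
    calc _ = QuadraticMap.polar (⇑Q) (L X *ᵥ ((((h i)⁻¹ : GL ι F) : MM) *ᵥ u)) ((((h i)⁻¹ : GL ι F) : MM) *ᵥ v) :=
          h1 _ _
      _ = QuadraticMap.polar (⇑Q) ((((h i)⁻¹ : GL ι F) : MM) *ᵥ u)
          (L (g⁻¹ * Xᵀ * g) *ᵥ ((((h i)⁻¹ : GL ι F) : MM) *ᵥ v)) := hadj X _ _
      _ = _ := h1.symm _ _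
  · refine (Cfsg.Agent.Lib.TwoPrimeDim.actsIrreducibly_iff G).mp hD.absIrred.1 W ?_
    intro x hx
    induction hx using Subgroup.iSup_induction' with
    | hp i y hy =>
      obtain ⟨X, hX⟩ := hLsurj i _ (coe_mem_dcent hy)
      intro v hv
      rw [← hX]
      exact hW i X v hv
    | h1 => intro v hv; simpa using hv
    | hmul a b _ _ iha ihb =>
      intro v hv
      rw [Units.val_mul, ← Matrix.mulVec_mulVec]
      exact iha _ (ihb v hv)
  · rintro ⟨hq, rfl⟩
    refine hD.nonscalar i₀ ?_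
    rw [no_three hq hthree (hD.perfect i₀) L hinj g hgs hg0 hmem]
    exact bot_le

end Cfsg.Agent.Lib.OrthOddAny
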