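import Cfsg.Agent.Lib.OrthOddAny.Defs
import Cfsg.Agent.Lib.OrthNine.Adjoint
import Cfsg.Agent.Lib.PrimeDim.OrthCore

/-!
helper20: a group of isometries in odd dimension with a normal subgroup whose commutant has a field as centre lies in
the normaliser of a self-adjoint field of prime degree.
-/

set_option autoImplicit false
set_option linter.unusedSectionVars false
set_option linter.style.haveILetI false

namespace Cfsg.Agent.Lib.OrthOddAny

open Matrix Module Cfsg.Geo
open Cfsg.Agent.Lib.MaxSub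
open Cfsg.Agent.Lib.TwoPrimeDim (centre mem_centre centre_normalized)
open Cfsg.Agent.Lib.OrthNine
open QuadraticMap (polarBilin)
open scoped MatrixGroups Matrix

attribute [-simp] QuadraticMap.polarBilin_apply_apply

variable {ι : Type} [Fintype ι] [DecidableEq ι] {F : Type*} [Field F] [Fintype F]

/-- A subfield of every degree dividing the degree, inside the field. -/
theorem exists_subfield_le {r s : ℕ} (hr : 0 < r) (hsr : s ∣ r) {K : Subalgebra F (Matrix ι ι F)}
    (hK : IsFieldSubalgebra r K) :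
    ∃ L : Subalgebra F (Matrix ι ι F), IsFieldSubalgebra s L ∧ L ≤ K ∧ subalgebraNormalizer K ≤ subalgebraNormalizer L := by
  classical
  haveI : Finite K := inferInstance
  haveI : Nontrivial K := Module.nontrivial_of_finrank_pos (R := F) (hK.finrank_eq ▸ hr)
  have hfield : IsField K :=
    ⟨exists_pair_ne K, fun x y => Subtype.ext (hK.comm x x.2 y y.2), fun {x} hx => by
      obtain ⟨y, hy, hxy⟩ := hK.inv x x.2 fun h => hx (Subtype.ext h)
      exact ⟨⟨y, hy⟩, Subtype.ext hxy⟩⟩
  letI : Field K := hfield.toField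
  set q := Fintype.card F with hq
  have hq1 : 1 < q := Fintype.one_lt_card
  have hcardK : Nat.card K = q ^ r := by
    rw [Module.natCard_eq_pow_finrank (K := F), hK.finrank_eq, Nat.card_eq_fintype_card]
  obtain ⟨p, hp⟩ := CharP.exists F
  haveI : CharP K p := charP_of_injective_algebraMap (algebraMap F K).injective p
  obtain ⟨a, hpp, ha⟩ := FiniteField.card F p
  haveI : Fact p.Prime := ⟨hpp⟩
  set m := q ^ s with hm
  have hm0 : 0 < m := pow_pos (by omega) s
  have hmp : m = p ^ ((a : ℕ) * s) := by rw [hm, hq, ha, pow_mul]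
  let E : Subalgebra F K :=
    { carrier := {x | x ^ m = x}
      mul_mem' := fun {x y} hx hy => by
        simp only [Set.mem_setOf_eq] at hx hy ⊢; rw [mul_pow, hx, hy]
      one_mem' := one_pow m
      add_mem' := fun {x y} hx hy => by
        simp only [Set.mem_setOf_eq] at hx hy ⊢
        rw [hmp, add_pow_char_pow, ← hmp, hx, hy]
      zero_mem' := zero_pow hm0.ne'
      algebraMap_mem' := fun c => by
        simp only [Set.mem_setOf_eq]
        rw [← map_pow, hm, hq, FiniteField.pow_card_pow] }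
  have hcardE : Nat.card E = m := by
    have hset : (E : Set K) = insert 0 (Units.val '' ((powMonoidHom (m - 1) : Kˣ →* Kˣ).ker : Set Kˣ)) := by
      ext x
      show x ^ m = x ↔ _
      rw [Set.mem_insert_iff, Set.mem_image]
      constructor
      · intro hx
        by_cases h0 : x = 0
        · exact Or.inl h0
        · refine Or.inr ⟨Units.mk0 x h0, ?_, rfl⟩
          rw [SetLike.mem_coe, MonoidHom.mem_ker, powMonoidHom_apply]
          refine Units.ext (mul_left_cancel₀ h0 ?_)
          rw [Units.val_pow_eq_pow_val, Units.val_mk0, Units.val_one, ← pow_succ', mul_one,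
            Nat.sub_add_cancel hm0, hx]
      · rintro (rfl | ⟨u, hu, rfl⟩)
        · exact zero_pow hm0.ne'
        · rw [SetLike.mem_coe, MonoidHom.mem_ker, powMonoidHom_apply] at hu
          have h := congrArg Units.val hu
          rw [Units.val_pow_eq_pow_val, Units.val_one] at h
          conv_lhs => rw [← Nat.sub_add_cancel hm0, pow_succ', h, mul_one]
    have hnot : (0 : K) ∉ Units.val '' ((powMonoidHom (m - 1) : Kˣ →* Kˣ).ker : Set Kˣ) := by
      rintro ⟨u, -, hu⟩
      exact u.ne_zero hu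
    have h : Nat.card E = (E : Set K).ncard := (Nat.card_coe_set_eq _)
    rw [h, hset, Set.ncard_insert_of_notMem hnot (Set.toFinite _), Set.ncard_image_of_injective _ Units.val_injective,
      ← Nat.card_coe_set_eq, SetLike.coe_sort_coe, IsCyclic.card_powMonoidHom_ker]
    rw [Nat.card_units, hcardK, Nat.gcd_eq_right (by rw [hm]; exact Nat.pow_sub_one_dvd_pow_sub_one q hsr)]
    omega
  have hdimE : Module.finrank F E = s := by
    have h : m = q ^ Module.finrank F E := by
      rw [← hcardE, Module.natCard_eq_pow_finrank (K := F), Nat.card_eq_fintype_card]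
    exact (Nat.pow_right_injective hq1 h).symm
  have hmem : ∀ x : Matrix ι ι F, x ∈ E.map K.val ↔ x ∈ K ∧ x ^ m = x := by
    intro x
    rw [Subalgebra.mem_map]
    constructor
    · rintro ⟨y, hy, rfl⟩
      exact ⟨y.2, by have h := congrArg Subtype.val (show y ^ m = y from hy); simpa using h⟩
    · rintro ⟨hxK, hx⟩
      exact ⟨⟨x, hxK⟩, Subtype.ext (by simpa using hx), rfl⟩
  refine ⟨E.map K.val, ⟨?_, ?_, ?_⟩, fun x hx => ((hmem x).1 hx).1, ?_⟩
  · exact fun x hx y hy => hK.comm x ((hmem x).1 hx).1 y ((hmem y).1 hy).1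
  · rintro x ⟨z, hz, rfl⟩ hx0
    have hz0 : z ≠ 0 := fun h => hx0 (by rw [h]; rfl)
    exact ⟨((z⁻¹ : K) : Matrix ι ι F), ⟨z⁻¹, show z⁻¹ ^ m = z⁻¹ by rw [inv_pow, show z ^ m = z from hz], rfl⟩,
      congrArg Subtype.val (mul_inv_cancel₀ hz0)⟩
  · rw [← hdimE]
    exact ((Subalgebra.equivMapOfInjective E K.val Subtype.val_injective).toLinearEquiv.finrank_eq).symm
  · intro g hg k
    rw [hmem, hmem, ← hg k, Units.conj_pow]
    refine and_congr_right fun _ => ⟨fun h => by rw [h], fun h => ?_⟩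
    have h2 := congrArg (fun M => ((g⁻¹ : GL ι F) : Matrix ι ι F) * M * (g : Matrix ι ι F)) h
    simpa [mul_assoc] using h2

variable {Q : QuadraticForm F (ι → F)} {H N : Subgroup (GL ι F)}

/-- A field in the centre of the commutant gives a member of the fifth class. -/
theorem field_geo (hN : (polarBilin Q).Nondegenerate) (h2 : (2 : F) ≠ 0) (hodd : Odd (Fintype.card ι))
    (hiso : H ≤ Cfsg.isometryGroup F ⇑Q) (hNH : N ≤ H) (hnor : ∀ h ∈ H, ∀ x ∈ N, h * x * h⁻¹ ∈ N)
    (hs : ∀ x ∈ N, x ∈ Cfsg.Geo.scalars ι F → x = 1) (hN0 : N ≠ ⊥) {r : ℕ} (hr1 : 1 < r)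
    (hr : r ∣ Fintype.card ι) (hK : IsFieldSubalgebra r (centre N)) : InGeo Q H := by
  haveI : Nonempty ι := Fintype.card_pos_iff.mp hodd.pos
  have hNiso : N ≤ Cfsg.isometryGroup F ⇑Q := hNH.trans hiso
  have hrodd : Odd r := hodd.of_dvd_nat hr
  have hself : ∀ k ∈ centre N, Adjoint.Adj Q k k := Adjoint.self_adjoint_of_field hN hNiso h2 hrodd hK
  by_cases hp : ∃ p : ℕ, p.Prime ∧ p ∣ r ∧ Fintype.card ι ≠ p
  · obtain ⟨p, hpp, hpr, hne⟩ := hp
    obtain ⟨L, hL, hLK, hLn⟩ := exists_subfield_le (by omega) hpr hK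
    exact Or.inr (Or.inr (Or.inr (Or.inr (Or.inl
      ⟨p, L, hpp, hne, hL, fun k hk u v => hself k (hLK hk) u v,
        fun g hg => hLn (centre_normalized hnor hg)⟩))))
  push Not at hp
  exfalso
  have hrn : r = Fintype.card ι := by
    obtain ⟨p, hpp, hpr⟩ := Nat.exists_prime_and_dvd (show r ≠ 1 by omega)
    have hn : Fintype.card ι = p := hp p hpp hpr
    rw [hn] at hr ⊢
    exact ((Nat.dvd_prime hpp).mp hr).resolve_left (by omega)
  refine hN0 ((Subgroup.eq_bot_iff_forall _).mpr fun x hx => hs x hx ?_)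
  let v : ι → F := Pi.single (Classical.arbitrary ι) 1
  have hv : v ≠ 0 := by simp [v]
  have hK' : IsFieldSubalgebra (Fintype.card ι) (centre N) := hrn ▸ hK
  obtain ⟨k, hk, hkv⟩ := PrimeDim.OrthCore.gen_of_field hK' hv ((x : Matrix ι ι F) *ᵥ v)
  have hxk : (x : Matrix ι ι F) = k := Matrix.ext_of_mulVec_single fun j => by
    obtain ⟨l, hl, hlv⟩ := PrimeDim.OrthCore.gen_of_field hK' hv (Pi.single j 1)
    rw [← hlv, Matrix.mulVec_mulVec, Matrix.mulVec_mulVec, (mem_centre.mp hl).1 x hx, hK.comm k hk l hl,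
      ← Matrix.mulVec_mulVec, ← Matrix.mulVec_mulVec, hkv]
  have hadj : Adjoint.Adj Q (x : Matrix ι ι F) (x : Matrix ι ι F) := hxk ▸ hself k hk
  have hinv : ((x⁻¹ : GL ι F) : Matrix ι ι F) = x := (Adjoint.adj_iso (hNiso hx)).unique hN hadj
  have hxx : (x : Matrix ι ι F) * x = 1 := by
    conv_lhs => arg 2; rw [← hinv]
    rw [Units.mul_inv]
  have hprod : ((x : Matrix ι ι F) - 1) * ((x : Matrix ι ι F) + 1) = 0 := by
    rw [sub_mul, mul_add, one_mul, mul_one, hxx]; abel
  rcases eq_or_ne ((x : Matrix ι ι F) - 1) 0 with h | h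
  · exact Cfsg.Agent.Lib.KnownA.PrimeDim.mem_scalars_of_matrix Fintype.card_pos (c := 1)
      (by rw [one_smul]; exact sub_eq_zero.mp h)
  · obtain ⟨y, hy, hy1⟩ := hK.inv _ ((centre N).sub_mem (hxk ▸ hk) (centre N).one_mem) h
    have h' := congrArg (y * ·) hprod
    simp only [← mul_assoc, mul_zero] at h'
    rw [hK.comm y hy _ ((centre N).sub_mem (hxk ▸ hk) (centre N).one_mem), hy1, one_mul] at h'
    exact Cfsg.Agent.Lib.KnownA.PrimeDim.mem_scalars_of_matrix Fintype.card_pos (c := -1)
      (by rw [neg_one_smul]; exact eq_neg_of_add_eq_zero_left h')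

end Cfsg.Agent.Lib.OrthOddAny
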