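import Cfsg.Agent.Lib.OrthOddAny.Defs
import Cfsg.Agent.Lib.OrthNine.Adjoint
import Cfsg.Agent.Lib.OrthNine.Lines

/-!
helper25: blocks of the centre of a commutant in odd dimension give an orthogonal decomposition, or for lines over a
non-prime field a subfield structure carrying the form.
-/

set_option autoImplicit false
set_option linter.unusedSectionVars false
set_option linter.style.haveILetI false

namespace Cfsg.Agent.Lib.OrthOddAny

open Matrix Module QuadraticMap Cfsg.Agent.Lib Cfsg.Agent.Lib.MaxSub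
open Cfsg.Agent.Lib.Geometry (quad_add quad_sub quad_smul quad_polar_self quad_polar_comm)
open Cfsg.Agent.Lib.PrimeDim (OrthCases.nondegenerateForm)
open scoped MatrixGroups Matrix

attribute [-simp] QuadraticMap.polarBilin_apply_apply

variable {ι : Type} [Fintype ι] [DecidableEq ι] {F : Type*} [Field F] [Fintype F]
variable {Q : QuadraticForm F (ι → F)} (hN : (polarBilin Q).Nondegenerate) (h2 : (2 : F) ≠ 0)

include hN h2 in
/-- Lines of one isometry type permuted by a group, over a non-prime field. -/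
theorem lines_subfield {t : ℕ} (hn : Fintype.card ι = t) (ht : Odd t)
    (hd : ∀ F₀ : Subfield F, (Cfsg.Geo.gramMatrix (QuadraticMap.polar ⇑Q)).det ∈ F₀)
    {H : Subgroup (GL ι F)} (hiso : H ≤ Cfsg.isometryGroup F ⇑Q) (hp : ¬ (Fintype.card F).Prime)
    (v : Fin t → (ι → F)) {a : F} (ha : a ≠ 0) (hQv : ∀ i, Q (v i) = a)
    (horth : ∀ i j, i ≠ j → polarBilin Q (v i) (v j) = 0)
    (hmon : ∀ g ∈ H, ∀ i, ∃ (j : Fin t) (c : F), (g : Matrix ι ι F) *ᵥ v i = c • v j) : InGeo Q H := by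
  classical
  obtain ⟨m, hm⟩ := ht
  have h2a : 2 * a ≠ 0 := mul_ne_zero h2 ha
  have hBv : ∀ i j, polarBilin Q (v i) (v j) = if i = j then 2 * a else 0 := fun i j => by
    by_cases hij : i = j
    · subst hij; rw [if_pos rfl, quad_polar_self, hQv]
    · rw [if_neg hij, horth i j hij]
  have hsgn : ∀ g ∈ H, ∀ i j (c : F), (g : Matrix ι ι F) *ᵥ v i = c • v j → c = 1 ∨ c = -1 := by
    intro g hg i j c hc
    have h1 := Orth.iso_quad (hiso hg) (v i)
    rw [hc, quad_smul, hQv, hQv] at h1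
    exact mul_self_eq_one_iff.mp ((mul_eq_right₀ ha).mp h1)
  let e : Fin t ≃ ι := (finCongr hn.symm).trans (Fintype.equivFin ι).symm
  let u : ι → (ι → F) := fun j => v (e.symm j)
  let M₀ : Matrix ι ι F := Matrix.of fun r j => u j r
  have hM₀ : ∀ j, M₀ *ᵥ Pi.single j 1 = u j := fun j => by
    rw [Matrix.mulVec_single_one]; rfl
  have hNQ := OrthCases.nondegenerateForm hN
  have hform := PrimeDim.FormDescent.form_eq (RingHom.id F) (QuadraticMap.polar ⇑Q) hNQ.polar_bilinear.add_left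
    hNQ.polar_bilinear.smul_left hNQ.polar_bilinear.add_right hNQ.polar_bilinear.smul_right
  set G := Cfsg.Geo.gramMatrix (QuadraticMap.polar ⇑Q) with hG
  have hGram : M₀ᵀ * G * M₀ = (2 * a) • (1 : Matrix ι ι F) := by
    ext i j
    have h1 := PrimeDim.FormDescent.gram_congr (RingHom.id F) (QuadraticMap.polar ⇑Q) hform M₀ (Pi.single i 1)
      (Pi.single j 1)
    rw [hM₀, hM₀, ← polarBilin_apply_apply, hBv, show M₀.map (RingHom.id F) = M₀ by ext; rfl,
      show (RingHom.id F) ∘ Pi.single j (1 : F) = Pi.single j 1 from rfl,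
      Matrix.mulVec_single_one, single_one_dotProduct] at h1
    simp only [e.symm.injective.eq_iff] at h1
    rw [Matrix.smul_apply, Matrix.one_apply, smul_eq_mul, mul_ite, mul_one, mul_zero]
    exact h1.symm
  have hdet : M₀.det * G.det * M₀.det = (2 * a) ^ Fintype.card ι := by
    have h3 := congrArg Matrix.det hGram
    rwa [Matrix.det_mul, Matrix.det_mul, Matrix.det_transpose, Matrix.det_smul, Matrix.det_one, mul_one] at h3
  have hM0 : M₀.det ≠ 0 := fun h0 => pow_ne_zero (Fintype.card ι) h2a (by rw [← hdet, h0, mul_zero])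
  set μ : F := (2 * a) ^ m / M₀.det with hμ
  have hμ0 : μ ≠ 0 := div_ne_zero (pow_ne_zero _ h2a) hM0
  have hμa : μ * μ * (2 * a) = G.det := by
    rw [hn, hm, pow_succ, pow_mul', pow_two] at hdet
    rw [hμ, div_mul_div_comm, div_mul_eq_mul_div, div_eq_iff (mul_ne_zero hM0 hM0)]
    linear_combination -hdet
  obtain ⟨F₀, r, -, hr, hcard⟩ := PrimeDim.FormDescent.exists_prime_index (F₀ := (⊥ : Subfield F)) (fun h0 => by
    obtain ⟨p, hpc⟩ := CharP.exists F
    haveI : Fact p.Prime := ⟨CharP.char_is_prime F p⟩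
    have h1 : Nat.card (⊥ : Subfield F) = p := Subfield.card_bot F p
    rw [h0, Nat.card_congr (Subfield.topEquiv (K := F)).toEquiv, Nat.card_eq_fintype_card] at h1
    exact hp (h1 ▸ Fact.out))
  have hPdet : (μ • M₀).det ≠ 0 := by
    rw [Matrix.det_smul]; exact mul_ne_zero (pow_ne_zero _ hμ0) hM0
  let P : GL ι F := Matrix.GeneralLinearGroup.mkOfDetNeZero (μ • M₀) hPdet
  have hP : (P : Matrix ι ι F) = μ • M₀ := rfl
  refine Or.inr (Or.inr (Or.inr (Or.inr (Or.inr (Or.inr (Or.inl ⟨F₀, r, P, hr,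
    by rw [← Nat.card_eq_fintype_card]; exact hcard, fun x hx => ?_, fun g hg => ?_⟩))))))
  · have hval : Q ((P : Matrix ι ι F) *ᵥ x) = G.det / 2 * ∑ j, x j * x j := by
      have h1 := PrimeDim.FormDescent.gram_congr (RingHom.id F) (QuadraticMap.polar ⇑Q) hform M₀ x x
      rw [show M₀.map (RingHom.id F) = M₀ by ext; rfl, ← hG, hGram,
        show (RingHom.id F) ∘ x = x from rfl, Matrix.smul_mulVec, Matrix.one_mulVec, dotProduct_smul,
        ← polarBilin_apply_apply, quad_polar_self, smul_eq_mul] at h1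
      rw [hP, Matrix.smul_mulVec, quad_smul, ← hμa, show ∑ j, x j * x j = x ⬝ᵥ x from rfl]
      have h3 : Q (M₀ *ᵥ x) = a * (x ⬝ᵥ x) := mul_left_cancel₀ h2 (by rw [h1, mul_assoc])
      rw [h3, eq_comm, div_mul_eq_mul_div, div_eq_iff h2]
      ring
    rw [hval]
    exact F₀.mul_mem (F₀.div_mem (hd F₀) (natCast_mem F₀ 2)) (F₀.sum_mem fun j _ => F₀.mul_mem (hx j) (hx j))
  · have hent : ∀ i j, ((P⁻¹ * g * P : GL ι F) : Matrix ι ι F) i j ∈ F₀ := by
      intro i j
      obtain ⟨l, ε, hgv⟩ := hmon g hg (e.symm j)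
      have hεmem : ε ∈ F₀ := by
        rcases hsgn g hg _ _ _ hgv with h1 | h1 <;> rw [h1]
        · exact F₀.one_mem
        · exact F₀.neg_mem F₀.one_mem
      have hl : v l = u (e l) := by simp [u]
      have hcol : ((P⁻¹ * g * P : GL ι F) : Matrix ι ι F) *ᵥ Pi.single j 1 = ε • Pi.single (e l) 1 := by
        rw [Units.val_mul, Units.val_mul, ← Matrix.mulVec_mulVec, ← Matrix.mulVec_mulVec, hP,
          Matrix.smul_mulVec, hM₀, Matrix.mulVec_smul, hgv, smul_comm μ ε, hl, ← hM₀, ← Matrix.smul_mulVec,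
          ← hP, Matrix.mulVec_smul, Matrix.mulVec_mulVec, ← Units.val_mul, inv_mul_cancel, Units.val_one,
          Matrix.one_mulVec]
      have h3 := congrFun hcol i
      rw [Matrix.mulVec_single_one, Pi.smul_apply, Pi.single_apply, smul_eq_mul, mul_ite, mul_one, mul_zero] at h3
      rw [show ((P⁻¹ * g * P : GL ι F) : Matrix ι ι F) i j = if i = e l then ε else 0 from h3]
      split_ifs
      · exact hεmem
      · exact F₀.zero_mem
    let A : Matrix ι ι F₀ := Matrix.of fun i j => ⟨_, hent i j⟩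
    have hA : A.map F₀.subtype = ((P⁻¹ * g * P : GL ι F) : Matrix ι ι F) := rfl
    have hAdet : A.det ≠ 0 := fun h0 => by
      have h1 : (A.map F₀.subtype).det = 0 := by
        rw [← RingHom.mapMatrix_apply, ← RingHom.map_det, h0, map_zero]
      rw [hA] at h1
      exact (Matrix.GeneralLinearGroup.det_ne_zero _) h1
    refine ⟨Matrix.GeneralLinearGroup.map (F₀.subtype : F₀ →+* F)
      (Matrix.GeneralLinearGroup.mkOfDetNeZero A hAdet), Subgroup.mem_sup_left ⟨_, rfl⟩, ?_⟩
    rw [show Matrix.GeneralLinearGroup.map (F₀.subtype : F₀ →+* F)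
      (Matrix.GeneralLinearGroup.mkOfDetNeZero A hAdet) = P⁻¹ * g * P from Units.ext hA]
    simp only [MulEquiv.coe_toMonoidHom, MulAut.conj_apply]
    group


include hN h2 in
/-- Blocks of a centre. -/
theorem blocks_geo (hodd : Odd (Fintype.card ι)) {H N : Subgroup (GL ι F)}
    (hiso : H ≤ Cfsg.isometryGroup F ⇑Q)
    (hd : ∀ F₀ : Subfield F, (Cfsg.Geo.gramMatrix (QuadraticMap.polar ⇑Q)).det ∈ F₀) {t w : ℕ}
    {e : Fin t → Matrix ι ι F} (hNiso : N ≤ Cfsg.isometryGroup F ⇑Q) (hB : TwoPrimeDim.Blocks H N w e) :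
    InGeo Q H := by
  have hprod := hB.card_eq
  have ht : Odd t := Nat.Odd.of_mul_left (hprod ▸ hodd)
  have hD := OrthNine.Adjoint.blocks_orthogonal hN hNiso hiso ht hB
  by_cases hw : 1 < w
  · exact Or.inr (Or.inr (Or.inl ⟨t, w, _, hw, hD, hB.le_stab⟩))
  obtain rfl : w = 1 := by
    have := hB.decomp.pos
    omega
  by_cases hp : (Fintype.card F).Prime
  · exact Or.inr (Or.inr (Or.inr (Or.inl ⟨t, _, hp, hD, hB.le_stab⟩)))
  have h1 := hD.decomp.decomp.finrank_eq
  let i₀ : Fin t := ⟨0, ht.pos⟩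
  obtain ⟨d, hd0, hdsp⟩ := finrank_eq_one_iff'.mp (h1 i₀)
  choose E hE using fun i => hD.isometric i₀ i
  have hne : (d : ι → F) ≠ 0 := fun h => hd0 (Subtype.ext h)
  have hQd : Q (d : ι → F) ≠ 0 := by
    intro h0
    obtain ⟨⟨w, hw, hw'⟩, -⟩ := hD.decomp.nondegenerate i₀ (d : ι → F) d.2 hne
    obtain ⟨c, hc⟩ := hdsp ⟨w, hw⟩
    have hc' : w = c • (d : ι → F) := (congrArg Subtype.val hc).symm
    refine hw' ?_
    rw [QuadraticMap.polar_comm, ← polarBilin_apply_apply, hc', map_smul, quad_polar_self, h0, mul_zero, smul_zero]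
  refine lines_subfield hN h2 (by rw [← hprod, mul_one]) ht hd hiso hp (fun i => (E i d : ι → F)) hQd
    (fun i => hE i d) (fun i j hij => ?_) (fun g hg i => ?_)
  · rw [polarBilin_apply_apply]
    exact hD.decomp.orthogonal i j hij _ (E i d).2 _ (E j d).2
  · obtain ⟨σ, hσ⟩ := hB.le_stab hg
    have hσ' : (TwoPrimeDim.img (e i)).map (Matrix.toLin' (g : Matrix ι ι F)) = TwoPrimeDim.img (e (σ i)) := hσ i
    have hmem : (g : Matrix ι ι F) *ᵥ (E i d : ι → F) ∈ TwoPrimeDim.img (e (σ i)) :=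
      hσ' ▸ ⟨(E i d : ι → F), (E i d).2, Matrix.toLin'_apply _ _⟩
    obtain ⟨z, hz⟩ := (E (σ i)).surjective ⟨_, hmem⟩
    obtain ⟨c, hc⟩ := hdsp z
    refine ⟨σ i, c, ?_⟩
    have := congrArg Subtype.val hz
    rw [← hc, map_smul] at this
    exact this.symm

end Cfsg.Agent.Lib.OrthOddAny
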