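import Cfsg.Agent.Lib.OrthOddAny.Family
import Cfsg.Agent.Lib.OrthOddAny.Field
import Cfsg.Agent.Lib.OrthOddAny.Lines
import Cfsg.Agent.Lib.OrthNine.Main

/-!
The subgroup structure of odd-dimensional orthogonal groups, given the tensor steps.
-/

set_option autoImplicit false
set_option linter.unusedSectionVars false

namespace Cfsg.Agent.Lib.OrthOddAny

open Matrix Module QuadraticMap Cfsg.Agent.Lib.MaxSub
open Cfsg.Agent.Lib.PrimeDim (OrthCore.exists_minimal_normal)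
open Cfsg.Agent.Lib.TwoPrimeDim (centre mem_centre centre_cases)
open scoped MatrixGroups Matrix

attribute [-simp] QuadraticMap.polarBilin_apply_apply

variable {ι : Type} [Fintype ι] [DecidableEq ι] {F : Type*} [Field F] [Fintype F]
  {Q : QuadraticForm F (ι → F)}

local notation "MM" => Matrix ι ι F

/-- The steps for one subgroup. -/
structure Steps (Q : QuadraticForm F (ι → F)) (H : Subgroup (GL ι F)) : Prop where
  reducible : ¬ Cfsg.Geo.ActsIrreducibly (Cfsg.Geo.matrixSet H) → InGeo Q H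
  pair : Cfsg.Geo.ActsIrreducibly (Cfsg.Geo.matrixSet H) → ∀ {N : Subgroup (GL ι F)}, N ≤ H →
    (∀ h ∈ H, ∀ x ∈ N, h * x * h⁻¹ ∈ N) → ⁅N, N⁆ = N → N ≠ ⊥ →
    (∀ x ∈ N, x ∈ Cfsg.Geo.scalars ι F → x = 1) → (∀ M ∈ centre N, ∃ c : F, M = c • (1 : MM)) →
    ¬ Cfsg.Geo.ActsAbsolutelyIrreducibly (Cfsg.Geo.matrixSet N) → InGeo Q H
  core : ∀ {N : Subgroup (GL ι F)}, N ≤ H → (∀ h ∈ H, ∀ x ∈ N, h * x * h⁻¹ ∈ N) →
    (∀ M : Subgroup (GL ι F), M ≤ N → (∀ h ∈ H, ∀ x ∈ M, h * x * h⁻¹ ∈ M) → M = ⊥ ∨ M = N) →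
    (∀ x ∈ N, x ∈ Cfsg.Geo.scalars ι F → x = 1) → Cfsg.Geo.ActsAbsolutelyIrreducibly (Cfsg.Geo.matrixSet N) →
    (∃ x ∈ N, ∃ y ∈ N, x * y ≠ y * x) →
    (∀ F₀ : Subfield F, F₀ ≠ ⊤ → ¬ Cfsg.Geo.RealisableOver F₀ (Cfsg.Geo.matrixSet N)) →
    Cfsg.Geo.IsResidualCore H N ∨ ∃ t D, Family H t D
  slot : SlotStep Q
  three : ThreeStep F
  wreath : ∀ {t k : ℕ}, Slots Q H t k → 2 ≤ t → 3 ≤ k → ¬ (Fintype.card F = 3 ∧ k = 3) → InGeo Q H

/-- Every subgroup of the isometry group without non-trivial scalars is geometric or residual. -/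
theorem structure_cases (hN : (polarBilin Q).Nondegenerate) (h2 : (2 : F) ≠ 0) (hodd : Odd (Fintype.card ι))
    (h3 : 3 ≤ Fintype.card ι)
    (hd : ∀ F₀ : Subfield F, (Cfsg.Geo.gramMatrix (QuadraticMap.polar ⇑Q)).det ∈ F₀)
    {H : Subgroup (GL ι F)} (hH : H ≤ Cfsg.Geo.omegaGL ⇑Q) (S : Steps Q H) :
    InGeo Q H ∨ Cfsg.Geo.InOrthogonalResidualClass H := by
  haveI : Nonempty ι := Fintype.card_pos_iff.mp (by omega)
  by_cases hirr : Cfsg.Geo.ActsIrreducibly (Cfsg.Geo.matrixSet H)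
  swap
  · exact Or.inl (S.reducible hirr)
  have hH0 : H ≠ ⊥ := by
    rintro rfl
    obtain ⟨v, hv⟩ : ∃ v : ι → F, v ≠ 0 := ⟨Pi.single (Classical.arbitrary ι) 1, by simp⟩
    rcases (Cfsg.Agent.Lib.KnownA.PrimeDim.actsIrreducibly_iff _).mp hirr (F ∙ v) (fun x hx w hw => by
      rw [Subgroup.mem_bot] at hx
      rwa [hx, Units.val_one, Matrix.one_mulVec]) with h | h
    · exact hv (Submodule.span_singleton_eq_bot.mp h)
    · have := finrank_span_singleton (K := F) hv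
      rw [h, finrank_top, Module.finrank_fintype_fun_eq_card] at this
      omega
  obtain ⟨N, hNH, hN0, hnor, hmin⟩ := OrthCore.exists_minimal_normal hH0
  have hs : ∀ x ∈ N, x ∈ Cfsg.Geo.scalars ι F → x = 1 := fun x hx hxs =>
    Cfsg.Agent.Lib.PrimeDim.OrthProper.scalar_eq_one hodd hN (hH (hNH hx)) hxs
  have hHiso : H ≤ Cfsg.isometryGroup F ⇑Q := fun x hx => Orth.omegaGL_le_isometry (hH hx)
  have hNiso : N ≤ Cfsg.isometryGroup F ⇑Q := hNH.trans hHiso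
  rcases centre_cases hirr hnor with ⟨r, hr, hK⟩ | ⟨t, w, e, hB⟩
  swap
  · exact Or.inl (blocks_geo hN h2 hodd hHiso hd hNiso hB)
  have hr0 : 0 < r := Nat.pos_of_dvd_of_pos hr (by omega)
  rcases Nat.lt_or_ge 1 r with hr1 | hr1
  · exact Or.inl (field_geo hN h2 hodd hHiso hNH hnor hs hN0 hr1 hr hK)
  obtain rfl : r = 1 := by omega
  have hc : ∀ M ∈ centre N, ∃ c : F, M = c • (1 : MM) := fun M hM => by
    rw [Subalgebra.eq_bot_of_finrank_one hK.finrank_eq, Algebra.mem_bot] at hM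
    obtain ⟨c, rfl⟩ := hM
    exact ⟨c, Algebra.algebraMap_eq_smul_one c⟩
  have hnab := OrthNine.Main.nonabelian_of_centre hc hs hN0
  have hperf := OrthNine.Main.perfect_of_minimal hnor hmin hnab
  by_cases habs : Cfsg.Geo.ActsAbsolutelyIrreducibly (Cfsg.Geo.matrixSet N)
  swap
  · exact Or.inl (S.pair hirr hNH hnor hperf hN0 hs hc habs)
  have hfix : Cfsg.Geo.FixesQuadForm (Cfsg.Geo.matrixSet N) ⇑Q := by
    rintro _ ⟨x, hx, rfl⟩ v
    exact Orth.iso_quad (hNiso hx) v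
  have hNQ := Cfsg.Agent.Lib.PrimeDim.OrthCases.nondegenerateForm hN
  by_cases hreal : ∃ F₀ : Subfield F, F₀ ≠ ⊤ ∧ Cfsg.Geo.RealisableOver F₀ (Cfsg.Geo.matrixSet N)
  · left
    obtain ⟨F₀, h0, hR⟩ := hreal
    obtain ⟨F₁, r, h1, hr, hcard, hR1⟩ := PrimeDim.FormDescent.exists_prime_index_realisable h0 hR
    obtain ⟨B', hB', hBn⟩ := PrimeDim.FormDescent.exists_quad_structure hodd h2 hNQ (hd F₁) habs hfix hR1
    exact Or.inr <| Or.inr <| Or.inr <| Or.inr <| Or.inr <| Or.inr <| Or.inl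
      ⟨F₁, r, B', hr, by rw [← Nat.card_eq_fintype_card]; exact hcard, hB',
        fun g hg => hBn g fun x hx => hnor g hg x hx⟩
  push Not at hreal
  rcases S.core hNH hnor hmin hs habs hnab hreal with hcore | ⟨t, D, hD⟩
  · refine Or.inr ⟨N, hcore, ?_⟩
    rintro ⟨σ, f, hf, hff⟩
    obtain ⟨F₀, h0, -, hR⟩ := PrimeDim.FormDescent.realisable_of_unitary_quad hf hNQ habs hff hfix
    exact hreal F₀ h0 hR
  · obtain ⟨k, ⟨Sl⟩, hk, hq⟩ := family_slots S.slot S.three hHiso hD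
    exact Or.inl (S.wreath Sl hD.two_le hk hq)

end Cfsg.Agent.Lib.OrthOddAny
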