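import Cfsg.Agent.Lib.OrthOddAny.Main

/-!
The standard odd-dimensional form.
-/

set_option autoImplicit false

namespace Cfsg.Agent.Lib.OrthOddAny

open scoped MatrixGroups Matrix

/-- The list, for the standard form, given the steps. -/
theorem structure_of_steps {F : Type*} [Field F] [Fintype F] (hodd : Odd (Fintype.card F)) (m : ℕ) (hm : 3 ≤ m)
    (H : Subgroup (GL (Unit ⊕ (Fin m ⊕ Fin m)) F))
    (hH : H ≤ Cfsg.Geo.omegaGL (Cfsg.quadFormOdd m F))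
    (hsteps : ∀ Q : QuadraticForm F (Unit ⊕ (Fin m ⊕ Fin m) → F),
      (QuadraticMap.polarBilin Q).Nondegenerate → (2 : F) ≠ 0 → H ≤ Cfsg.isometryGroup F ⇑Q → Steps Q H) :
    (∃ M : Subgroup (GL (Unit ⊕ (Fin m ⊕ Fin m)) F), Cfsg.Geo.InOrthogonalOddClass m F M ∧ H ≤ M) ∨
      Cfsg.Geo.InOrthogonalResidualClass H := by
  have h2 : (2 : F) ≠ 0 := Ring.two_ne_zero fun h => Nat.not_even_iff_odd.mpr hodd
    (Nat.even_iff.mpr (FiniteField.even_card_of_char_two h))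
  have hd := Cfsg.Agent.Lib.PrimeDim.OrthOddStd.gram_det_mem (F := F) (m := m)
  obtain ⟨Q, hQe, hN⟩ := Cfsg.Agent.Lib.MaxSub.Orth.exists_quadraticForm
    (Cfsg.Agent.Lib.PrimeDim.OrthOddStd.nondeg (m := m) h2)
  have hcard : Fintype.card (Unit ⊕ (Fin m ⊕ Fin m)) = 2 * m + 1 := by simp; omega
  rw [hQe] at hH hd
  have hiso : H ≤ Cfsg.isometryGroup F ⇑Q :=
    fun x hx => Cfsg.Agent.Lib.MaxSub.Orth.omegaGL_le_isometry (hH hx)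
  rcases structure_cases hN h2 (hcard.symm ▸ odd_two_mul_add_one m) (by omega) hd hH (hsteps Q hN h2 hiso) with h | h
  · left
    unfold Cfsg.Geo.InOrthogonalOddClass
    rw [hQe]
    rcases h with ⟨W, h0, h1, hle⟩ | ⟨W, h0, h1, h3, hle⟩ | ⟨t, k, D, hk, hD, hle⟩ | ⟨t, D, hp, hD, hle⟩ |
      ⟨r, K, hr, hne, hK, hs, hle⟩ | ⟨a, b, e, P, f₁, f₂, ha, hab, hf₁, hf₂, hT, hle⟩ |
      ⟨F₀, r, P, hr, hc, hP, hle⟩ | ⟨k, t, e, P, f₁, hk, ht, hq, hf, hT, hle⟩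
    · exact ⟨_, Or.inl ⟨W, h0, h1, rfl⟩, le_inf hle hiso⟩
    · exact ⟨_, Or.inr <| Or.inl ⟨W, h0, h1, h3, rfl⟩, le_inf hle hiso⟩
    · exact ⟨_, Or.inr <| Or.inr <| Or.inl ⟨t, k, D, hk, hD, rfl⟩, le_inf hle hiso⟩
    · exact ⟨_, Or.inr <| Or.inr <| Or.inr <| Or.inl ⟨t, D, hp, hD, rfl⟩, le_inf hle hiso⟩
    · exact ⟨_, Or.inr <| Or.inr <| Or.inr <| Or.inr <| Or.inl
        ⟨r, K, hr, hcard ▸ hne, hK, hs, rfl⟩, le_inf hle hiso⟩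
    · exact ⟨_, Or.inr <| Or.inr <| Or.inr <| Or.inr <| Or.inr <| Or.inl
        ⟨a, b, e, P, f₁, f₂, ha, hab, hf₁, hf₂, hT, rfl⟩, le_inf hle hiso⟩
    · exact ⟨_, Or.inr <| Or.inr <| Or.inr <| Or.inr <| Or.inr <| Or.inr <| Or.inl
        ⟨F₀, r, P, hr, hc, hP, rfl⟩, le_inf hle hiso⟩
    · exact ⟨_, Or.inr <| Or.inr <| Or.inr <| Or.inr <| Or.inr <| Or.inr <| Or.inr
        ⟨k, t, e, P, f₁, hk, ht, hq, hf, hT, rfl⟩, le_inf hle hiso⟩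
  · exact Or.inr h

end Cfsg.Agent.Lib.OrthOddAny
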